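import Cfsg.Agent.H41.HM.Asm
import Cfsg.Agent.H276.HM.BDSym

/-!
# S5175: `StOff` and `StBD` for symmetric blocks (helper41, helper276)
-/

set_option autoImplicit false

namespace Cfsg.Agent.H41.HM

open Cfsg Cfsg.Agent.H756.HM
open scoped commutatorElement

universe u

/-- `StBD`, symmetric type -/
theorem stBD {P : Type u} [Group P] [Finite P] (T : Sylow 2 P) (b : Blk (T : Subgroup P)) (hs : SymTyp b)
    (X : Subgroup P) (h1 : X ≤ T) (h2 : (T : Subgroup P) ≤ Subgroup.normalizer (X : Set P))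
    (h3 : ∀ a ∈ X, ∀ b ∈ X, a * b = b * a) (h4 : ∀ a ∈ X, a ^ 2 = 1) (h5 : ¬ X ≤ pCore 2 P)
    (h6 : (⁅pCore 2 P, pResidual 2 P⁆ ⊓ Subgroup.centralizer (X : Set P)).relIndex ⁅pCore 2 P, pResidual 2 P⁆ ≤
      (pCore 2 P ⊓ X).relIndex X) :
    Nonempty (BD (T : Subgroup P)) :=
  stBD_of.{u} Cfsg.Agent.H276.HM.bds T b hs X h1 h2 h3 h4 h5 h6

end Cfsg.Agent.H41.HM
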