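import Cfsg.Agent.H41.HM.Setup

/-!
# S5175, symmetric blocks: the result of the offender analysis (helper41)
-/

set_option autoImplicit false

namespace Cfsg.Agent.H41.HM

open Cfsg Cfsg.Agent.H756.HM
open scoped commutatorElement

variable {P : Type*} [Group P] {T : Subgroup P} {I : Type} {n : ℕ}

/-- `X` acts on the points as the full group of all products of certain pairwise disjoint transpositions, each contained
in a block, with exactly one fixed point in each block; and `C_W(X)` is the full preimage of the fixed vectors. -/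
structure Full (S : Sy T I n) (X : Subgroup P) : Prop where
  fixb : ∀ a ∈ X, ∀ x, (S.σ a x).1 = x.1
  fp : ∃ f : I → Fin n, ∀ i k, (∀ a ∈ X, S.σ a (i, k) = (i, k)) ↔ k = f i
  orb : ∀ a ∈ X, ∀ b ∈ X, ∀ x, S.σ a x ≠ x → S.σ b x ≠ x → S.σ a x = S.σ b x
  full : ∀ g : Equiv.Perm (I × Fin n), (∀ x, ∃ a ∈ X, g x = S.σ a x) → ∃ a ∈ X, S.σ a = g
  cen : ∀ w ∈ (⁅pCore 2 P, pResidual 2 P⁆ : Subgroup P), (∀ a ∈ X, ∀ x, S.Ψ w (S.σ a x) = S.Ψ w x) →
    ∀ a ∈ X, w * a = a * w

/-- the hypotheses on an offender -/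
structure Offd (T X : Subgroup P) : Prop where
  le : X ≤ T
  nor : T ≤ Subgroup.normalizer (X : Set P)
  ab : ∀ a ∈ X, ∀ b ∈ X, a * b = b * a
  sq : ∀ a ∈ X, a ^ 2 = 1

/-- the bound (helper41 proves it) -/
def OffBound (T : Subgroup P) : Prop :=
  ∀ X : Subgroup P, Offd T X → (pCore 2 P ⊓ X).relIndex X ≤
      (⁅pCore 2 P, pResidual 2 P⁆ ⊓ Subgroup.centralizer (X : Set P)).relIndex ⁅pCore 2 P, pResidual 2 P⁆

/-- equality (helper41 proves it) -/
def OffEq (S : Sy T I n) : Prop :=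
  ∀ X : Subgroup P, Offd T X → ¬ X ≤ pCore 2 P →
    (⁅pCore 2 P, pResidual 2 P⁆ ⊓ Subgroup.centralizer (X : Set P)).relIndex ⁅pCore 2 P, pResidual 2 P⁆ ≤
      (pCore 2 P ⊓ X).relIndex X → Full S X

/-- the construction of the block data (helper276) -/
def StBDS : Prop := ∀ {P : Type*} [Group P] [Finite P] (T : Sylow 2 P) {I : Type} {n : ℕ} (S : Sy (T : Subgroup P) I n)
    (X : Subgroup P), Offd (T : Subgroup P) X → Full S X → OffBound (T : Subgroup P) → OffEq S →
    Nonempty (BD (T : Subgroup P))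

end Cfsg.Agent.H41.HM
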