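import Cfsg.Agent.H41.HM.FullT

/-!
# S5175, symmetric blocks: the rank one case `n = 3`, one block, is linear over `ZMod 2` (helper41)
-/

set_option autoImplicit false
set_option linter.unusedSectionVars false

namespace Cfsg.Agent.H41.HM

open Cfsg Cfsg.Agent.H756.HM
open scoped commutatorElement

/-- the matrix of a permutation of three points on the even vectors, in the coordinates `v 0, v 1` -/
def M3 (g : Equiv.Perm (Fin 3)) : Matrix (Fin 2) (Fin 2) (ZMod 2) :=
  Matrix.of fun j l => (if g⁻¹ j.castSucc = l.castSucc then 1 else 0) + (if g⁻¹ j.castSucc = 2 then 1 else 0)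

theorem M3_det : ∀ g : Equiv.Perm (Fin 3), (M3 g).det = 1 := by decide +kernel

theorem M3_mul : ∀ g h : Equiv.Perm (Fin 3), M3 (g * h) = M3 g * M3 h := by decide +kernel

theorem M3_one : M3 1 = 1 := by decide +kernel

theorem M3_inj : ∀ g : Equiv.Perm (Fin 3), M3 g = 1 → g = 1 := by decide +kernel

theorem M3_surj : ∀ a b c d : ZMod 2, a * d - b * c = 1 → ∃ g : Equiv.Perm (Fin 3), M3 g = !![a, b; c, d] := by
  decide +kernel

theorem M3_act (g : Equiv.Perm (Fin 3)) (v w : Fin 3 → ZMod 2) (hv : ∑ k, v k = 0) (hw : ∀ k, w (g k) = v k) (j : Fin 2) :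
    w j.castSucc = (M3 g).mulVec (fun l : Fin 2 => v l.castSucc) j := by
  have h1 : w j.castSucc = v (g⁻¹ j.castSucc) := by
    rw [← hw]
    congr 1
    exact (g.apply_symm_apply _).symm
  rw [h1]
  have h2 : v 2 = v 0 + v 1 := by
    rw [Fin.sum_univ_three] at hv
    have := CharTwo.add_self_eq_zero (v 2)
    linear_combination this - hv
  unfold M3 Matrix.mulVec dotProduct
  rw [Fin.sum_univ_two]
  simp only [Matrix.of_apply]
  have h3 : ∀ m : Fin 3, v m = (((if m = (0 : Fin 2).castSucc then 1 else 0) + (if m = 2 then 1 else 0)) * v (0 : Fin 2).castSucc +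
      ((if m = (1 : Fin 2).castSucc then 1 else 0) + (if m = 2 then 1 else 0)) * v (1 : Fin 2).castSucc) := by
    intro m
    fin_cases m
    · simp
    · simp
    · simp [h2]
  exact h3 _

/-- the homomorphism -/
def R3 : Equiv.Perm (Fin 3) →* Matrix.SpecialLinearGroup (Fin 2) (ZMod 2) where
  toFun g := ⟨M3 g, M3_det g⟩
  map_one' := Subtype.ext M3_one
  map_mul' g h := Subtype.ext (M3_mul g h)

theorem R3_surj : Function.Surjective R3 := by
  intro A
  have h1 := A.2
  rw [Matrix.det_fin_two] at h1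
  obtain ⟨g, hg⟩ := M3_surj _ _ _ _ h1
  refine ⟨g, Subtype.ext ?_⟩
  show M3 g = A.1
  rw [hg]
  ext i j
  fin_cases i <;> fin_cases j <;> rfl

theorem R3_inj {g : Equiv.Perm (Fin 3)} (h : R3 g = 1) : g = 1 := M3_inj g (congrArg Subtype.val h)

variable {P : Type*} [Group P] {T : Subgroup P} {I : Type}

/-- one block with three points -/
theorem linOne_three [Finite P] (S : Sy T I 3) {X : Subgroup P} (hX : Offd T X) (h : Full S X) (i₀ : I)
    (hI : ∀ i, i = i₀) {a : P} (ha : a ∈ X) {k₀ : Fin 3} (hk : S.σ a (i₀, k₀) ≠ (i₀, k₀)) :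
    LinOne P ⁅pCore 2 P, pResidual 2 P⁆ (X ⊔ pCore 2 P) 2 := by
  classical
  have hfin := S.fin
  have hb : ∀ g x, (S.σ g x).1 = i₀ := fun g x => hI _
  have hbx : ∀ x : I × Fin 3, x = (i₀, x.2) := fun x => Prod.ext (hI _) rfl
  -- the action on three points
  let φ : P →* Equiv.Perm (Fin 3) :=
    { toFun := fun g =>
        { toFun := fun k => (S.σ g (i₀, k)).2
          invFun := fun k => (S.σ g⁻¹ (i₀, k)).2
          left_inv := fun k => by
            show (S.σ g⁻¹ (i₀, (S.σ g (i₀, k)).2)).2 = k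
            rw [← hbx, ← Equiv.Perm.mul_apply, ← map_mul, inv_mul_cancel, map_one]; rfl
          right_inv := fun k => by
            show (S.σ g (i₀, (S.σ g⁻¹ (i₀, k)).2)).2 = k
            rw [← hbx, ← Equiv.Perm.mul_apply, ← map_mul, mul_inv_cancel, map_one]; rfl }
      map_one' := by
        ext1 k
        show (S.σ 1 (i₀, k)).2 = k
        rw [map_one]; rfl
      map_mul' := fun g g' => by
        ext1 k
        show (S.σ (g * g') (i₀, k)).2 = (S.σ g (i₀, (S.σ g' (i₀, k)).2)).2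
        rw [← hbx, map_mul]; rfl }
  have hφ : ∀ g k, S.σ g (i₀, k) = (i₀, φ g k) := fun g k => hbx _
  have hφ1 : ∀ g, φ g = 1 ↔ g ∈ pCore 2 P := by
    intro g
    rw [← S.σker]
    constructor
    · intro h
      ext1 x
      rw [hbx x, hφ, h]; rfl
    · intro h
      ext1 k
      show (S.σ g (i₀, k)).2 = k
      rw [h]; rfl
  let W : Subgroup P := ⁅pCore 2 P, pResidual 2 P⁆
  let T0 : Subgroup P := X ⊔ pCore 2 P
  refine ⟨ZMod 2, inferInstance, inferInstance, 1, le_rfl, by rw [ZMod.card, pow_one], ZMod.card 2,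
    (R3.comp φ).comp (pResidual 2 P ⊔ T0).subtype,
    { toFun := fun w => Multiplicative.ofAdd fun j : Fin 2 => S.Ψ (w : P) (i₀, j.castSucc)
      map_one' := by
        rw [Subgroup.coe_one, S.one_]; rfl
      map_mul' := fun w w' => by
        rw [Subgroup.coe_mul, S.mul _ w.2 _ w'.2]; rfl }, ?_, ?_, ?_, ?_, ?_⟩
  · intro A
    obtain ⟨π, rfl⟩ := R3_surj A
    -- even permutations
    have heven : ∀ π ∈ alternatingGroup (Fin 3), ∃ e ∈ pResidual 2 P, φ e = π := by
      intro π hπ
      obtain ⟨e, he, he1, -⟩ := S.alt i₀ π hπ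
      refine ⟨e, he, ?_⟩
      ext1 k
      show (S.σ e (i₀, k)).2 = _
      rw [he1]
    rcases Int.units_eq_one_or (Equiv.Perm.sign π) with h1 | h1
    · obtain ⟨e, he, hee⟩ := heven π h1
      refine ⟨⟨e, Subgroup.mem_sup_left he⟩, ?_⟩
      show R3 (φ e) = R3 π
      rw [hee]
    · obtain ⟨b, hb', hbs⟩ := h.swap_mem hX ha (i₀, k₀)
      have h2 : φ b = Equiv.swap k₀ (φ a k₀) := by
        ext1 k
        have h3 : S.σ b (i₀, k) = Equiv.swap (i₀, k₀) (i₀, φ a k₀) (i₀, k) := by rw [hbs, hφ]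
        have h4 : φ b k = (Equiv.swap ((i₀, k₀) : I × Fin 3) (i₀, φ a k₀) (i₀, k)).2 := by
          rw [← h3]; rfl
        rw [h4, Equiv.swap_apply_def, Equiv.swap_apply_def]
        by_cases h5 : k = k₀
        · rw [if_pos (by rw [h5]), if_pos h5]
        · rw [if_neg (fun e => h5 (congrArg Prod.snd e)), if_neg h5]
          by_cases h6 : k = φ a k₀
          · rw [if_pos (by rw [h6]), if_pos h6]
          · rw [if_neg (fun e => h6 (congrArg Prod.snd e)), if_neg h6]
      have hne : k₀ ≠ φ a k₀ := fun e => hk (by rw [hφ, ← e])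
      obtain ⟨e, he, hee⟩ := heven (π * (φ b)⁻¹) (by
        rw [Equiv.Perm.mem_alternatingGroup, map_mul, map_inv, h1, h2, Equiv.Perm.sign_swap hne]; decide)
      refine ⟨⟨e * b, mul_mem (Subgroup.mem_sup_left he) (Subgroup.mem_sup_right (Subgroup.mem_sup_left hb'))⟩, ?_⟩
      show R3 (φ (e * b)) = R3 π
      rw [map_mul φ, hee, inv_mul_cancel_right]
  · intro g
    rw [← hφ1]
    constructor
    · intro h; exact R3_inj h
    · intro h
      show R3 (φ g) = 1
      rw [h, map_one]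
  · intro v
    let v' : I × Fin 3 → ZMod 2 := fun x => ![Multiplicative.toAdd v 0, Multiplicative.toAdd v 1,
      Multiplicative.toAdd v 0 + Multiplicative.toAdd v 1] x.2
    obtain ⟨w, hw, hww⟩ := S.surj v' (fun i => by
      rw [Fin.sum_univ_three]
      show Multiplicative.toAdd v 0 + Multiplicative.toAdd v 1 + (Multiplicative.toAdd v 0 + Multiplicative.toAdd v 1) = 0
      exact two2 _)
    refine ⟨⟨w, hw⟩, ?_⟩
    show (Multiplicative.ofAdd fun j : Fin 2 => S.Ψ w (i₀, j.castSucc)) = v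
    rw [hww]
    apply Multiplicative.toAdd.injective
    funext j
    fin_cases j <;> rfl
  · rintro ⟨w, hw⟩
    show (Multiplicative.ofAdd fun j : Fin 2 => S.Ψ w (i₀, j.castSucc)) = 1 ↔ _
    rw [← S.ker w hw]
    constructor
    · intro h1
      have h2 := congrArg Multiplicative.toAdd h1
      have e0 : S.Ψ w (i₀, 0) = 0 := congrFun h2 0
      have e1 : S.Ψ w (i₀, 1) = 0 := congrFun h2 1
      have e2 := S.even w hw i₀
      rw [Fin.sum_univ_three, e0, e1, zero_add, zero_add] at e2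
      funext x
      rw [hbx x]
      obtain ⟨i, k⟩ := x
      fin_cases k
      · exact e0
      · exact e1
      · exact e2
    · intro h1
      rw [h1]; rfl
  · rintro e ⟨w, hw⟩ ⟨w', hw'⟩ h1
    change w' = e * w * (e : P)⁻¹ at h1
    subst h1
    funext j
    show S.Ψ (e * w * (e : P)⁻¹) (i₀, j.castSucc) = (M3 (φ e)).mulVec (fun l : Fin 2 => S.Ψ w (i₀, l.castSucc)) j
    exact M3_act (φ e) (fun k => S.Ψ w (i₀, k)) (fun k => S.Ψ (e * w * (e : P)⁻¹) (i₀, k)) (S.even w hw i₀)
      (fun k => by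
        show S.Ψ (e * w * (e : P)⁻¹) (i₀, φ e k) = S.Ψ w (i₀, k)
        rw [← hφ]
        exact S.eqv e w hw _) j

/-- **the dichotomy**: if only `O_2(P)` fixes a moved point then we are in the linear rank one case -/
theorem linOne_of [Finite P] {n : ℕ} (S : Sy T I n) {X : Subgroup P} (hX : Offd T X) (h : Full S X) {a : P} (ha : a ∈ X)
    {x₀ : I × Fin n} (hx : S.σ a x₀ ≠ x₀) (hB : ∀ t ∈ X, S.σ t x₀ = x₀ → t ∈ pCore 2 P) :
    LinOne P ⁅pCore 2 P, pResidual 2 P⁆ (X ⊔ pCore 2 P) 2 := by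
  classical
  have hfin := S.fin
  obtain ⟨f, hf⟩ := h.fp
  -- the only moved points are `x₀` and its partner
  have h1 : ∀ x : I × Fin n, (∃ b ∈ X, S.σ b x ≠ x) → x = x₀ ∨ x = S.σ a x₀ := by
    rintro x ⟨b, hb, hbx⟩
    by_contra hcon
    rw [not_or] at hcon
    obtain ⟨c, hc, hcs⟩ := h.swap_mem hX hb x
    have h2 : S.σ c x₀ = x₀ := by
      rw [hcs]
      apply Equiv.swap_apply_of_ne_of_ne (Ne.symm hcon.1)
      intro e
      have h3 : S.σ b x₀ = x := by rw [e]; exact S.invol hX hb x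
      have h4 : S.σ b x₀ ≠ x₀ := by rw [h3]; exact hcon.1
      exact hcon.2 (h3.symm.trans (h.orb b hb a ha x₀ h4 hx))
    have h5 := (S.σker c).2 (hB c hc h2)
    rw [h5] at hcs
    have h6 : Equiv.swap x (S.σ b x) x = x := by rw [← hcs]; rfl
    rw [Equiv.swap_apply_left] at h6
    exact hbx h6
  have h1' : ∀ i k, k ≠ f i → (i, k) = x₀ ∨ (i, k) = S.σ a x₀ := by
    intro i k hk
    apply h1
    by_contra hcon
    push Not at hcon
    exact hk ((hf i k).1 hcon)
  obtain ⟨i₀, k₀⟩ := x₀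
  have hfa := h.fixb a ha (i₀, k₀)
  change (S.σ a (i₀, k₀)).1 = i₀ at hfa
  have hI : ∀ i, i = i₀ := by
    intro i
    obtain ⟨k, hk, -⟩ := Sy.exists_third S i (f i) (i, f i)
    rcases h1' i k hk with h2 | h2
    · exact congrArg Prod.fst h2
    · rw [← hfa, ← h2]
  have hn : n = 3 := by
    have h3 := S.n3
    have h4 : (Finset.univ : Finset (Fin n)) ⊆ {f i₀, k₀, (S.σ a (i₀, k₀)).2} := by
      intro k _
      rw [Finset.mem_insert, Finset.mem_insert, Finset.mem_singleton]
      by_cases hk : k = f i₀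
      · exact Or.inl hk
      · rcases h1' i₀ k hk with h2 | h2
        · exact Or.inr (Or.inl (congrArg Prod.snd h2))
        · exact Or.inr (Or.inr (congrArg Prod.snd h2))
    have h5 := Finset.card_le_card h4
    rw [Finset.card_univ, Fintype.card_fin] at h5
    have h6 := Finset.card_le_three (a := f i₀) (b := k₀) (c := (S.σ a (i₀, k₀)).2)
    omega
  subst hn
  exact linOne_three S hX h i₀ hI ha hx

end Cfsg.Agent.H41.HM
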