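import Cfsg.Agent.H41.HM.Full
import Cfsg.Agent.H894.Orbit

/-!
# S5175, symmetric blocks: the offender bound (helper41)
-/

set_option autoImplicit false
set_option linter.unusedSectionVars false

namespace Cfsg.Agent.H41.HM

open Cfsg Cfsg.Agent.H756.HM
open scoped commutatorElement

/-- a 2-group of block preserving permutations: a point in the block `i` fixed by the stabilizer of the block -/
theorem exists_fix {I : Type} {n : ℕ} (hn : ¬ 2 ∣ n) (H : Subgroup (Equiv.Perm (I × Fin n))) (hH : IsPGroup 2 H)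
    (hb : ∀ g ∈ H, ∀ i k k', (g (i, k)).1 = (g (i, k')).1) (i : I) :
    ∃ k : Fin n, ∀ g ∈ H, (g (i, k)).1 = i → g (i, k) = (i, k) := by
  let M : Subgroup (Equiv.Perm (I × Fin n)) :=
    { carrier := {g | g ∈ H ∧ ∀ k, (g (i, k)).1 = i}
      one_mem' := ⟨H.one_mem, fun _ => rfl⟩
      mul_mem' := by
        rintro g h ⟨hg, hg'⟩ ⟨hh, hh'⟩
        refine ⟨H.mul_mem hg hh, fun k => ?_⟩
        rw [Equiv.Perm.mul_apply]
        have : h (i, k) = (i, (h (i, k)).2) := Prod.ext (hh' k) rfl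
        rw [this]; exact hg' _
      inv_mem' := by
        rintro g ⟨hg, hg'⟩
        refine ⟨H.inv_mem hg, fun k => ?_⟩
        have h1 : g (i, k) = (i, (g (i, k)).2) := Prod.ext (hg' k) rfl
        rw [hb _ (H.inv_mem hg) i k (g (i, k)).2, ← h1]
        exact congrArg Prod.fst (g.symm_apply_apply (i, k)) }
  have hM : IsPGroup 2 M := hH.to_le fun g hg => hg.1
  let act : MulAction M (Fin n) :=
    { smul := fun g k => (g.1 (i, k)).2
      one_smul := fun _ => rfl
      mul_smul := fun g h k => by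
        show ((g.1 * h.1) (i, k)).2 = (g.1 (i, (h.1 (i, k)).2)).2
        rw [Equiv.Perm.mul_apply]
        have : h.1 (i, k) = (i, (h.1 (i, k)).2) := Prod.ext (h.2.2 k) rfl
        rw [← this] }
  obtain ⟨k, hk⟩ := hM.nonempty_fixed_point_of_prime_not_dvd_card (Fin n) (by rwa [Nat.card_eq_fintype_card, Fintype.card_fin])
  refine ⟨k, fun g hg hgi => ?_⟩
  have hgM : g ∈ M := ⟨hg, fun k' => by rw [hb g hg i k' k]; exact hgi⟩
  have h1 : (g (i, k)).2 = k := hk ⟨g, hgM⟩
  exact Prod.ext hgi h1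

/-- the abstract quadratic situation -/
structure Qd {I : Type} {n : ℕ} (A : Subgroup (Equiv.Perm (I × Fin n))) : Prop where
  blk : ∀ a ∈ A, ∀ i k k', (a (i, k)).1 = (a (i, k')).1
  orb : ∀ a ∈ A, ∀ b ∈ A, ∀ x, a x ≠ x → b x ≠ x → a x = b x
  sw : ∀ a ∈ A, ∀ b ∈ A, ∀ i k l, (a (i, k)).1 ≠ i → (b (i, k)).1 = i → b (i, l) = (i, l)
  fx : ∀ i, ∃ k, ∀ a ∈ A, (a (i, k)).1 = i → a (i, k) = (i, k)

theorem Qd.mono {I : Type} {n : ℕ} {A B : Subgroup (Equiv.Perm (I × Fin n))} (hA : Qd A) (h : B ≤ A) : Qd B where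
  blk := fun a ha => hA.blk a (h ha)
  orb := fun a ha b hb => hA.orb a (h ha) b (h hb)
  sw := fun a ha b hb => hA.sw a (h ha) b (h hb)
  fx := fun i => by
    obtain ⟨k, hk⟩ := hA.fx i
    exact ⟨k, fun a ha => hk a (h ha)⟩

variable {P : Type*} [Group P] {T : Subgroup P} {I : Type} {n : ℕ}

namespace Sy

variable (S : Sy T I n)

theorem one_ : S.Ψ 1 = 0 := (S.ker 1 (one_mem _)).2 (one_mem _)

include S in
theorem inv_eq {w : P} (hw : w ∈ (⁅pCore 2 P, pResidual 2 P⁆ : Subgroup P)) : w⁻¹ = w := by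
  have h := S.bw.W_sq w hw
  rw [pow_two] at h
  exact inv_eq_of_mul_eq_one_left h

/-- vectors of weight two -/
theorem exists_ee [DecidableEq I] {x y : I × Fin n} (h : x.1 = y.1) :
    ∃ w ∈ (⁅pCore 2 P, pResidual 2 P⁆ : Subgroup P), S.Ψ w = SBl.ee x y := S.surj _ (SBl.ee_even h)

/-- the elements of `W` with `B`-invariant vector -/
def Cn (B : Subgroup (Equiv.Perm (I × Fin n))) : Subgroup P where
  carrier := {w | w ∈ (⁅pCore 2 P, pResidual 2 P⁆ : Subgroup P) ∧ ∀ b ∈ B, ∀ x, S.Ψ w (b x) = S.Ψ w x}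
  one_mem' := ⟨one_mem _, fun b _ x => by rw [S.one_]; rfl⟩
  mul_mem' := by
    rintro w w' ⟨hw, h⟩ ⟨hw', h'⟩
    refine ⟨mul_mem hw hw', fun b hb x => ?_⟩
    rw [S.mul w hw w' hw', Pi.add_apply, Pi.add_apply, h b hb, h' b hb]
  inv_mem' := by
    rintro w ⟨hw, h⟩
    rw [S.inv_eq hw]
    exact ⟨hw, h⟩

theorem Cn_le (B : Subgroup (Equiv.Perm (I × Fin n))) : S.Cn B ≤ ⁅pCore 2 P, pResidual 2 P⁆ := fun _ h => h.1

theorem Cn_anti {A B : Subgroup (Equiv.Perm (I × Fin n))} (h : B ≤ A) : S.Cn A ≤ S.Cn B :=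
  fun _ hw => ⟨hw.1, fun b hb x => hw.2 b (h hb) x⟩

include S in
theorem exists_third (i : I) (k : Fin n) (x : I × Fin n) : ∃ k' : Fin n, k' ≠ k ∧ (i, k') ≠ x := by
  by_contra hcon
  push Not at hcon
  have h1 : (Finset.univ : Finset (Fin n)) ⊆ {k, x.2} := by
    intro k' _
    by_cases hk : k' = k
    · rw [hk]; exact Finset.mem_insert_self _ _
    · rw [← hcon k' hk]
      exact Finset.mem_insert_of_mem (Finset.mem_singleton_self _)
  have h2 := Finset.card_le_card h1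
  rw [Finset.card_univ, Fintype.card_fin] at h2
  have h3 := Finset.card_le_two (a := k) (b := x.2)
  have := S.n3
  omega

variable [Finite P]

/-- the point stabilizer in `A` of a moved point has index two -/
theorem stab_index {A : Subgroup (Equiv.Perm (I × Fin n))} (hA : Qd A) {b : Equiv.Perm (I × Fin n)} (hb : b ∈ A)
    {x : I × Fin n} (hx : b x ≠ x) : (MulAction.stabilizer (Equiv.Perm (I × Fin n)) x ⊓ A).relIndex A = 2 := by
  rw [Subgroup.inf_relIndex_right, Subgroup.relIndex_eq_two_iff_exists_notMem_and]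
  refine ⟨b, hb, fun h => hx h, fun c hc => ?_⟩
  by_cases h1 : c x = x
  · right; exact h1
  · left
    show (c * b) x = x
    by_contra h2
    have h3 := hA.orb c hc b hb x h1 hx
    have h4 := hA.orb (c * b) (mul_mem hc hb) b hb x h2 hx
    rw [Equiv.Perm.mul_apply, ← h3] at h4
    exact h1 (c.injective h4)

theorem Cn_finite {B : Subgroup (Equiv.Perm (I × Fin n))} (H : Subgroup P) : (S.Cn B).relIndex H ≠ 0 :=
  Subgroup.index_ne_zero_of_finite

theorem not_mem_Cn [DecidableEq I] {A : Subgroup (Equiv.Perm (I × Fin n))} {a : Equiv.Perm (I × Fin n)} (ha : a ∈ A)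
    {x y : I × Fin n} {w : P} (hww : S.Ψ w = SBl.ee x y) (hxy : x ≠ y) (hx : a x ≠ x) (hy : a x ≠ y) : w ∉ S.Cn A := by
  intro h
  have h1 := h.2 a ha x
  rw [hww] at h1
  unfold SBl.ee at h1
  rw [if_neg hx, if_neg hy, if_pos rfl, if_neg hxy, add_zero, add_zero] at h1
  exact zero_ne_one h1

theorem ee_inv [DecidableEq I] {x y : I × Fin n} {b : Equiv.Perm (I × Fin n)} (hx : b x = x) (hy : b y = y)
    (z : I × Fin n) : SBl.ee x y (b z) = SBl.ee x y z := by
  unfold SBl.ee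
  have h1 : b z = x ↔ z = x := by
    constructor
    · intro h; apply b.injective; rw [h, hx]
    · intro h; rw [h, hx]
  have h2 : b z = y ↔ z = y := by
    constructor
    · intro h; apply b.injective; rw [h, hy]
    · intro h; rw [h, hy]
  simp only [h1, h2]

/-- a vector fixed by the stabilizer of a moved point but not by `A` -/
theorem exists_witness (A : Subgroup (Equiv.Perm (I × Fin n))) (hA : Qd A) {b : Equiv.Perm (I × Fin n)} (hb : b ∈ A)
    (i : I) (k : Fin n) (hx : b (i, k) ≠ (i, k)) :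
    ∃ w ∈ S.Cn (MulAction.stabilizer (Equiv.Perm (I × Fin n)) (i, k) ⊓ A), w ∉ S.Cn A := by
  classical
  by_cases hbi : (b (i, k)).1 = i
  · -- the block is fixed
    obtain ⟨f, hf⟩ := hA.fx i
    have hkf : (i, k) ≠ (i, f) := by
      intro h
      rw [h] at hx hbi
      exact hx (hf b hb hbi)
    have hbf : b (i, k) ≠ (i, f) := by
      intro h
      have h1 := hf b hb (by rw [hA.blk b hb i f k, hbi])
      rw [← h1] at h
      exact hkf (b.injective h)
    obtain ⟨w, hw, hww⟩ := S.exists_ee (x := (i, k)) (y := (i, f)) rfl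
    refine ⟨w, ⟨hw, fun c hc x => ?_⟩, S.not_mem_Cn hb hww hkf hx hbf⟩
    rw [hww]
    have hc1 : c (i, k) = (i, k) := hc.1
    exact ee_inv hc1 (hf c hc.2 (by rw [hA.blk c hc.2 i f k, hc1])) x
  · -- the block is moved
    obtain ⟨l, hlk, hl⟩ := exists_third S i k (b (i, k))
    obtain ⟨w, hw, hww⟩ := S.exists_ee (x := (i, k)) (y := (i, l)) rfl
    refine ⟨w, ⟨hw, fun c hc x => ?_⟩, S.not_mem_Cn hb hww (fun e => hlk (congrArg Prod.snd e).symm) hx (Ne.symm hl)⟩
    rw [hww]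
    have hc1 : c (i, k) = (i, k) := hc.1
    exact ee_inv hc1 (hA.sw b hb c hc.2 i k l hbi (by rw [hc1])) x

theorem step (A : Subgroup (Equiv.Perm (I × Fin n))) (hA : Qd A) {b : Equiv.Perm (I × Fin n)} (hb : b ∈ A)
    (i : I) (k : Fin n) (hx : b (i, k) ≠ (i, k)) :
    Nat.card A = 2 * Nat.card ↥(MulAction.stabilizer (Equiv.Perm (I × Fin n)) (i, k) ⊓ A) ∧
    (S.Cn A).relIndex (⁅pCore 2 P, pResidual 2 P⁆ : Subgroup P) =
      (S.Cn A).relIndex (S.Cn (MulAction.stabilizer (Equiv.Perm (I × Fin n)) (i, k) ⊓ A)) *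
      (S.Cn (MulAction.stabilizer (Equiv.Perm (I × Fin n)) (i, k) ⊓ A)).relIndex
        (⁅pCore 2 P, pResidual 2 P⁆ : Subgroup P) ∧
    2 ≤ (S.Cn A).relIndex (S.Cn (MulAction.stabilizer (Equiv.Perm (I × Fin n)) (i, k) ⊓ A)) := by
  set B := MulAction.stabilizer (Equiv.Perm (I × Fin n)) (i, k) ⊓ A with hB
  have hBA : B ≤ A := inf_le_right
  refine ⟨?_, ?_, ?_⟩
  · rw [← stab_index hA hb hx, mul_comm, ← hB, ← Subgroup.relIndex_bot_left, ← Subgroup.relIndex_bot_left,
      Subgroup.relIndex_mul_relIndex _ _ _ bot_le hBA]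
  · exact (Subgroup.relIndex_mul_relIndex _ _ _ (S.Cn_anti hBA) (S.Cn_le B)).symm
  · obtain ⟨w, hw, hwn⟩ := S.exists_witness A hA hb i k hx
    have h0 := S.Cn_finite (B := A) (S.Cn B)
    have h1 : (S.Cn A).relIndex (S.Cn B) ≠ 1 := by
      rw [Ne, Subgroup.relIndex_eq_one]
      intro h
      exact hwn (h hw)
    omega

/-- the key inequality -/
theorem count (A : Subgroup (Equiv.Perm (I × Fin n))) (hA : Qd A) :
    Nat.card A ≤ (S.Cn A).relIndex (⁅pCore 2 P, pResidual 2 P⁆ : Subgroup P) := by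
  have := S.fin
  induction hm : Nat.card A using Nat.strong_induction_on generalizing A with
  | _ m ih =>
    subst hm
    rcases A.bot_or_exists_ne_one with hbot | ⟨b, hb, hb1⟩
    · rw [hbot, Subgroup.card_bot]
      exact Nat.pos_of_ne_zero (S.Cn_finite _)
    · obtain ⟨⟨i, k⟩, hx⟩ : ∃ x, b x ≠ x := by
        by_contra hcon
        push Not at hcon
        exact hb1 (Equiv.ext hcon)
      obtain ⟨h1, h2, h3⟩ := S.step A hA hb i k hx
      have h4 : 0 < Nat.card ↥(MulAction.stabilizer (Equiv.Perm (I × Fin n)) (i, k) ⊓ A) := Nat.card_pos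
      have h5 := ih (Nat.card ↥(MulAction.stabilizer (Equiv.Perm (I × Fin n)) (i, k) ⊓ A)) (by omega)
        (MulAction.stabilizer (Equiv.Perm (I × Fin n)) (i, k) ⊓ A) (hA.mono (inf_le_right)) rfl
      rw [h1, h2]
      exact Nat.mul_le_mul h3 h5

/-- in the case of equality no block is moved -/
theorem no_swap (A : Subgroup (Equiv.Perm (I × Fin n))) (hA : Qd A)
    (heq : (S.Cn A).relIndex (⁅pCore 2 P, pResidual 2 P⁆ : Subgroup P) ≤ Nat.card A) :
    ∀ b ∈ A, ∀ x, (b x).1 = x.1 := by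
  classical
  have := S.fin
  rintro b hb ⟨i, k⟩
  by_contra hbi
  change (b (i, k)).1 ≠ i at hbi
  have hx : b (i, k) ≠ (i, k) := fun h => hbi (congrArg Prod.fst h)
  obtain ⟨h1, h2, h3⟩ := S.step A hA hb i k hx
  set B := MulAction.stabilizer (Equiv.Perm (I × Fin n)) (i, k) ⊓ A with hB
  have hBA : B ≤ A := inf_le_right
  have h4 := S.count B (hA.mono hBA)
  have h5 : (S.Cn A).relIndex (S.Cn B) = 2 := by
    have h6 : (S.Cn A).relIndex (S.Cn B) * (S.Cn B).relIndex (⁅pCore 2 P, pResidual 2 P⁆ : Subgroup P) ≤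
        2 * (S.Cn B).relIndex (⁅pCore 2 P, pResidual 2 P⁆ : Subgroup P) := by
      rw [← h2]
      refine heq.trans ?_
      rw [h1]
      exact Nat.mul_le_mul_left 2 h4
    have h7 := Nat.le_of_mul_le_mul_right h6 (Nat.pos_of_ne_zero (S.Cn_finite _))
    omega
  -- two independent vectors
  obtain ⟨l, hlk, -⟩ := exists_third S i k (b (i, k))
  obtain ⟨l', hlk', hl'⟩ := exists_third S i k (i, l)
  have hll' : l' ≠ l := fun e => hl' (by rw [e])
  have hw : ∀ l₁ l₂ : Fin n, ∀ w ∈ (⁅pCore 2 P, pResidual 2 P⁆ : Subgroup P), S.Ψ w = SBl.ee (i, l₁) (i, l₂) → w ∈ S.Cn B := by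
    intro l₁ l₂ w hw hww
    refine ⟨hw, fun c hc x => ?_⟩
    have hc1 : c (i, k) = (i, k) := hc.1
    rw [hww]
    exact ee_inv (hA.sw b hb c hc.2 i k l₁ hbi (by rw [hc1])) (hA.sw b hb c hc.2 i k l₂ hbi (by rw [hc1])) x
  have hw' : ∀ l₁ l₂ : Fin n, l₁ ≠ l₂ → ∀ w ∈ (⁅pCore 2 P, pResidual 2 P⁆ : Subgroup P),
      S.Ψ w = SBl.ee (i, l₁) (i, l₂) → w ∉ S.Cn A := by
    intro l₁ l₂ h12 w hw hww
    have hbl : (b (i, l₁)).1 ≠ i := by rw [hA.blk b hb i l₁ k]; exact hbi
    exact S.not_mem_Cn hb hww (fun e => h12 (congrArg Prod.snd e)) (fun e => hbl (congrArg Prod.fst e))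
      (fun e => hbl (congrArg Prod.fst e))
  obtain ⟨w₁, hw₁, hww₁⟩ := S.exists_ee (x := (i, k)) (y := (i, l)) rfl
  obtain ⟨w₂, hw₂, hww₂⟩ := S.exists_ee (x := (i, k)) (y := (i, l')) rfl
  have a1 := hw _ _ _ hw₁ hww₁
  have a2 := hw _ _ _ hw₂ hww₂
  have b1 := hw' _ _ (Ne.symm hlk) _ hw₁ hww₁
  have b2 := hw' _ _ (Ne.symm hlk') _ hw₂ hww₂
  have b3 : w₁ * w₂ ∉ S.Cn A := by
    apply hw' l l' (Ne.symm hll') _ (mul_mem hw₁ hw₂)
    rw [S.mul _ hw₁ _ hw₂, hww₁, hww₂]
    funext z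
    show ((if z = (i, k) then (1 : ZMod 2) else 0) + (if z = (i, l) then 1 else 0)) +
      ((if z = (i, k) then 1 else 0) + (if z = (i, l') then 1 else 0)) = _
    have h := two2 (if z = (i, k) then (1 : ZMod 2) else 0)
    unfold SBl.ee
    linear_combination h
  have h6 := (Subgroup.mul_mem_iff_of_index_two (H := (S.Cn A).subgroupOf (S.Cn B)) h5 (a := ⟨w₁, a1⟩) (b := ⟨w₂, a2⟩))
  apply b3
  have h7 : (⟨w₁, a1⟩ * ⟨w₂, a2⟩ : ↥(S.Cn B)) ∈ (S.Cn A).subgroupOf (S.Cn B) := by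
    rw [h6]
    constructor
    · intro h; exact absurd (Subgroup.mem_subgroupOf.1 h) b1
    · intro h; exact absurd (Subgroup.mem_subgroupOf.1 h) b2
  exact Subgroup.mem_subgroupOf.1 h7

/-! ### An offender satisfies the quadratic conditions -/

variable {X : Subgroup P}

theorem invol (hX : Offd T X) {a : P} (ha : a ∈ X) (x : I × Fin n) : S.σ a (S.σ a x) = x := by
  rw [← Equiv.Perm.mul_apply, ← map_mul, ← pow_two, hX.sq a ha, map_one]; rfl

theorem quad (hQT : pCore 2 P ≤ T) (hX : Offd T X) {w : P} (hw : w ∈ (⁅pCore 2 P, pResidual 2 P⁆ : Subgroup P))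
    {a b : P} (ha : a ∈ X) (hb : b ∈ X) (x : I × Fin n) :
    S.Ψ w x + S.Ψ w (S.σ a x) = S.Ψ w (S.σ b x) + S.Ψ w (S.σ a (S.σ b x)) := by
  have hWQ := SBl.WWQ (P := P)
  set u := w * (a * w * a⁻¹) with hu
  have haw : a * w * a⁻¹ ∈ (⁅pCore 2 P, pResidual 2 P⁆ : Subgroup P) := SBl.W_conj a hw
  have huW : u ∈ (⁅pCore 2 P, pResidual 2 P⁆ : Subgroup P) := mul_mem hw haw
  have huX : u ∈ X := by
    have h1 : u = (w * a * w⁻¹) * a⁻¹ := by
      rw [hu]
      nth_rewrite 2 [← S.inv_eq hw]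
      group
    rw [h1]
    have h2 : w ∈ Subgroup.normalizer (X : Set P) := hX.nor (hQT (hWQ hw))
    exact mul_mem ((Subgroup.mem_normalizer_iff.1 h2 a).1 ha) (inv_mem ha)
  have hub : b * u * b⁻¹ = u := by rw [hX.ab b hb u huX]; group
  have h3 : ∀ y, S.Ψ u y = S.Ψ w y + S.Ψ w (S.σ a y) := by
    intro y
    rw [hu, S.mul w hw _ haw, Pi.add_apply]
    congr 1
    have h4 := S.eqv a w hw (S.σ a y)
    rw [S.invol hX ha] at h4
    exact h4
  have h5 := S.eqv b u huW x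
  rw [hub, h3, h3] at h5
  exact h5.symm

/-- the conditions for a normal elementary abelian subgroup -/
theorem qd (hT : IsPGroup 2 T) (hQT : pCore 2 P ≤ T) (hX : Offd T X) : Qd (X.map S.σ) := by
  classical
  have hblk : ∀ g ∈ X.map S.σ, ∀ i k k', (g (i, k)).1 = (g (i, k')).1 := by
    rintro _ ⟨g, -, rfl⟩ i k k'
    exact S.blk g i k k'
  have hfx : ∀ i, ∃ k, ∀ a ∈ X.map S.σ, (a (i, k)).1 = i → a (i, k) = (i, k) := fun i =>
    exists_fix S.nodd _ ((hT.to_le hX.le).map _) hblk i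
  have hsw : ∀ a ∈ X, ∀ b ∈ X, ∀ i k l, (S.σ a (i, k)).1 ≠ i → (S.σ b (i, k)).1 = i → S.σ b (i, l) = (i, l) := by
    intro a ha b hb i k l hai hbi
    by_contra hne
    obtain ⟨l', hl'l, hl'⟩ := exists_third S i l (S.σ b (i, l))
    obtain ⟨w, hw, hww⟩ := S.exists_ee (x := (i, l)) (y := (i, l')) rfl
    have h1 := S.quad hQT hX hw ha hb (i, l)
    have hal : (S.σ a (i, l)).1 ≠ i := by rw [S.blk a i l k]; exact hai
    have hbl : (S.σ b (i, l)).1 = i := by rw [S.blk b i l k]; exact hbi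
    have habl : (S.σ a (S.σ b (i, l))).1 ≠ i := by
      have : S.σ b (i, l) = (i, (S.σ b (i, l)).2) := Prod.ext hbl rfl
      rw [this, S.blk a i _ k]; exact hai
    have e0 : ∀ z : I × Fin n, z.1 ≠ i → SBl.ee (i, l) (i, l') z = 0 := by
      intro z hz
      unfold SBl.ee
      rw [if_neg (fun e => hz (congrArg Prod.fst e)), if_neg (fun e => hz (congrArg Prod.fst e)), add_zero]
    rw [hww, e0 _ hal, e0 _ habl] at h1
    unfold SBl.ee at h1
    rw [if_pos rfl, if_neg (fun e => hl'l (congrArg Prod.snd e).symm), if_neg hne, if_neg (Ne.symm hl')] at h1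
    simp at h1
  have key : ∀ a ∈ X, ∀ b ∈ X, ∀ x, S.σ a x ≠ x → S.σ b x ≠ x → (S.σ a x).1 ≠ x.1 → S.σ a x = S.σ b x := by
    rintro a ha b hb ⟨i, k⟩ hax hbx hai
    change (S.σ a (i, k)).1 ≠ i at hai
    have hbi : (S.σ b (i, k)).1 ≠ i := fun h => hbx (hsw a ha b hb i k k hai h)
    by_cases hab : (S.σ (a * b) (i, k)).1 = i
    · have h1 := hsw a ha (a * b) (mul_mem ha hb) i k k hai hab
      rw [map_mul, Equiv.Perm.mul_apply] at h1
      conv_lhs => rw [← h1]
      exact S.invol hX ha _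
    · exfalso
      obtain ⟨l, hlk, -⟩ := exists_third S i k (i, k)
      obtain ⟨w, hw, hww⟩ := S.exists_ee (x := (i, k)) (y := (i, l)) rfl
      have h1 := S.quad hQT hX hw ha hb (i, k)
      have e0 : ∀ z : I × Fin n, z.1 ≠ i → SBl.ee (i, k) (i, l) z = 0 := by
        intro z hz
        unfold SBl.ee
        rw [if_neg (fun e => hz (congrArg Prod.fst e)), if_neg (fun e => hz (congrArg Prod.fst e)), add_zero]
      rw [map_mul, Equiv.Perm.mul_apply] at hab
      rw [hww, e0 _ hai, e0 _ hbi, e0 _ hab] at h1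
      unfold SBl.ee at h1
      rw [if_pos rfl, if_neg (fun e => hlk (congrArg Prod.snd e).symm)] at h1
      simp at h1
  refine ⟨hblk, ?_, ?_, hfx⟩
  · rintro _ ⟨a, ha, rfl⟩ _ ⟨b, hb, rfl⟩ x hax hbx
    by_cases h1 : (S.σ a x).1 = x.1
    · by_cases h2 : (S.σ b x).1 = x.1
      · obtain ⟨i, k⟩ := x
        change (S.σ a (i, k)).1 = i at h1
        change (S.σ b (i, k)).1 = i at h2
        obtain ⟨f, hf⟩ := hfx i
        have hfa : S.σ a (i, f) = (i, f) := hf _ ⟨a, ha, rfl⟩ (by rw [S.blk a i f k]; exact h1)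
        have hfb : S.σ b (i, f) = (i, f) := hf _ ⟨b, hb, rfl⟩ (by rw [S.blk b i f k]; exact h2)
        have hkf : (i, k) ≠ (i, f) := fun e => hax (by rw [e]; exact hfa)
        have haf : S.σ a (i, k) ≠ (i, f) := fun e => hkf ((S.σ a).injective (by rw [e, hfa]))
        have hbf : S.σ b (i, k) ≠ (i, f) := fun e => hkf ((S.σ b).injective (by rw [e, hfb]))
        have habf : S.σ a (S.σ b (i, k)) ≠ (i, f) := fun e => hbf ((S.σ a).injective (by rw [e, hfa]))
        obtain ⟨w, hw, hww⟩ := S.exists_ee (x := (i, k)) (y := (i, f)) rfl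
        have h3 := S.quad hQT hX hw ha hb (i, k)
        rw [hww] at h3
        unfold SBl.ee at h3
        rw [if_pos rfl, if_neg hkf, if_neg hax, if_neg haf, if_neg hbx, if_neg hbf, if_neg habf] at h3
        simp only [add_zero, zero_add] at h3
        by_cases h4 : S.σ a (S.σ b (i, k)) = (i, k)
        · conv_lhs => rw [← h4]
          exact S.invol hX ha _
        · rw [if_neg h4] at h3
          exact absurd h3 one_ne_zero
      · exact (key b hb a ha x hbx hax h2).symm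
    · exact key a ha b hb x hax hbx h1
  · rintro _ ⟨a, ha, rfl⟩ _ ⟨b, hb, rfl⟩ i k l hai hbi
    exact hsw a ha b hb i k l hai hbi

theorem card_map : (pCore 2 P ⊓ X).relIndex X = Nat.card (X.map S.σ) := by
  have h : pCore 2 P = S.σ.ker := by
    ext g
    rw [MonoidHom.mem_ker, S.σker]
  rw [Subgroup.inf_relIndex_right, h, Subgroup.relIndex_ker]

theorem cent_le_Cn : ⁅pCore 2 P, pResidual 2 P⁆ ⊓ Subgroup.centralizer (X : Set P) ≤ S.Cn (X.map S.σ) := by
  rintro w ⟨hw, hwc⟩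
  refine ⟨hw, ?_⟩
  rintro _ ⟨a, ha, rfl⟩ x
  have h1 := S.eqv a w hw x
  have h2 : a * w * a⁻¹ = w := by
    rw [(Subgroup.mem_centralizer_iff.1 hwc) a ha]; group
  rw [h2] at h1
  exact h1

end Sy

/-- **the bound** -/
theorem offBound [Finite P] (hT : IsPGroup 2 T) (hQT : pCore 2 P ≤ T) (S : Sy T I n) : OffBound T := by
  intro X hX
  rw [S.card_map]
  exact (S.count _ (S.qd hT hQT hX)).trans (Subgroup.relIndex_le_of_le_left S.cent_le_Cn Subgroup.index_ne_zero_of_finite)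

namespace Sy

variable (S : Sy T I n) [Finite P] {X : Subgroup P}

/-- a `T`-equivariant choice of points, one in each block -/
theorem exists_f (hT : IsPGroup 2 T) : ∃ f : I → Fin n, ∀ t ∈ T, ∀ i j, (S.σ t (i, f i)).1 = j → S.σ t (i, f i) = (j, f j) := by
  have := S.ne
  obtain ⟨i₀⟩ := S.ne
  have hblk : ∀ g ∈ T.map S.σ, ∀ i k k', (g (i, k)).1 = (g (i, k')).1 := by
    rintro _ ⟨g, -, rfl⟩ i k k'
    exact S.blk g i k k'
  obtain ⟨f₀, hf₀⟩ := exists_fix S.nodd (T.map S.σ) (hT.map _) hblk i₀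
  choose t ht hti using fun j => S.trans i₀ j
  refine ⟨fun j => (S.σ (t j) (i₀, f₀)).2, ?_⟩
  have h1 : ∀ j, S.σ (t j) (i₀, f₀) = (j, (S.σ (t j) (i₀, f₀)).2) := fun j => Prod.ext (hti j f₀) rfl
  intro s hs i j hij
  rw [← h1 i] at hij ⊢
  rw [← h1 j]
  have h2 : (S.σ ((t j)⁻¹ * s * t i) (i₀, f₀)).1 = i₀ := by
    rw [map_mul, map_mul, Equiv.Perm.mul_apply, Equiv.Perm.mul_apply]
    have h3 : S.σ s (S.σ (t i) (i₀, f₀)) = (j, (S.σ s (S.σ (t i) (i₀, f₀))).2) := Prod.ext hij rfl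
    rw [h3, S.blk _ j _ (S.σ (t j) (i₀, f₀)).2, ← h1 j, ← Equiv.Perm.mul_apply, ← map_mul, inv_mul_cancel, map_one]
    rfl
  have h4 := hf₀ _ ⟨(t j)⁻¹ * s * t i, mul_mem (mul_mem (inv_mem (ht j)) hs) (ht i), rfl⟩ h2
  have h5 := congrArg (S.σ (t j)) h4
  rw [← Equiv.Perm.mul_apply, ← map_mul] at h5
  rw [← h5, ← Equiv.Perm.mul_apply, ← map_mul]
  congr 2
  group

theorem even_two (hn : 4 ≤ n) {k l k' l' : Fin n} (h : k ≠ l) (h' : k' ≠ l') :
    ∃ π ∈ alternatingGroup (Fin n), π k = k' ∧ π l = l' := by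
  have h1 := alternatingGroup.isMultiplyPretransitive (Fin n)
  have h2 : MulAction.IsMultiplyPretransitive (alternatingGroup (Fin n)) (Fin n) 2 := by
    rw [Nat.card_eq_fintype_card, Fintype.card_fin] at h1
    apply MulAction.isMultiplyPretransitive_of_le (n := n - 2) (by omega)
    rw [Nat.card_eq_fintype_card, Fintype.card_fin]; omega
  rw [MulAction.is_two_pretransitive_iff] at h2
  obtain ⟨g, h3, h4⟩ := h2 h h'
  exact ⟨g, g.2, h3, h4⟩

/-- `T` is transitive on the points different from the `f i` -/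
theorem trans2 (T : Sylow 2 P) (S : Sy (T : Subgroup P) I n) (hn : 4 ≤ n) (f : I → Fin n)
    (hf : ∀ t ∈ (T : Subgroup P), ∀ i j, (S.σ t (i, f i)).1 = j → S.σ t (i, f i) = (j, f j)) (i j : I) (k l : Fin n) (hk : k ≠ f i)
    (hl : l ≠ f j) : ∃ t ∈ (T : Subgroup P), S.σ t (i, k) = (j, l) := by
  classical
  have hfin := S.fin
  have := Fintype.ofFinite I
  let Y := {p : (I × Fin n) × (I × Fin n) // p.1.1 = p.2.1 ∧ p.1 ≠ p.2}
  let act : MulAction P Y :=
    { smul := fun g y => ⟨(S.σ g y.1.1, S.σ g y.1.2), by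
        obtain ⟨⟨⟨a, b⟩, ⟨c, d⟩⟩, h1, h2⟩ := y
        change a = c at h1
        subst h1
        exact ⟨S.blk g a b d, fun h => h2 ((S.σ g).injective h)⟩⟩
      one_smul := fun y => by
        apply Subtype.ext
        show (S.σ 1 y.1.1, S.σ 1 y.1.2) = y.1
        rw [map_one]; rfl
      mul_smul := fun g h y => by
        apply Subtype.ext
        show (S.σ (g * h) y.1.1, S.σ (g * h) y.1.2) = (S.σ g (S.σ h y.1.1), S.σ g (S.σ h y.1.2))
        rw [map_mul]; rfl }
  have hact1 : ∀ (g : P) (y : Y), (g • y).1.1 = S.σ g y.1.1 := fun _ _ => rfl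
  have hact2 : ∀ (g : P) (y : Y), (g • y).1.2 = S.σ g y.1.2 := fun _ _ => rfl
  have htr : MulAction.IsPretransitive P Y := by
    refine ⟨fun y y' => ?_⟩
    obtain ⟨⟨⟨a, b⟩, ⟨c, d⟩⟩, h1, h2⟩ := y
    obtain ⟨⟨⟨a', b'⟩, ⟨c', d'⟩⟩, h1', h2'⟩ := y'
    change a = c at h1
    change a' = c' at h1'
    subst h1
    subst h1'
    have hbd : b ≠ d := fun e => h2 (by rw [e])
    have hbd' : b' ≠ d' := fun e => h2' (by rw [e])
    obtain ⟨t, -, hta⟩ := S.trans a a'
    have e1 : S.σ t (a, b) = (a', (S.σ t (a, b)).2) := Prod.ext (hta b) rfl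
    have e2 : S.σ t (a, d) = (a', (S.σ t (a, d)).2) := Prod.ext (hta d) rfl
    have hne : (S.σ t (a, b)).2 ≠ (S.σ t (a, d)).2 := by
      intro e
      rw [e, ← e2] at e1
      exact hbd (congrArg Prod.snd ((S.σ t).injective e1))
    obtain ⟨π, hπ, hπ1, hπ2⟩ := even_two hn hne hbd'
    obtain ⟨e, -, he, -⟩ := S.alt a' π hπ
    refine ⟨e * t, Subtype.ext (Prod.ext ?_ ?_)⟩
    · rw [hact1, map_mul, Equiv.Perm.mul_apply]
      show S.σ e (S.σ t (a, b)) = (a', b')
      rw [e1, he, hπ1]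
    · rw [hact2, map_mul, Equiv.Perm.mul_apply]
      show S.σ e (S.σ t (a, d)) = (a', d')
      rw [e2, he, hπ2]
  have hcardY : Nat.card Y = Nat.card I * (n * n - n) := by
    let eq : Y ≃ I × {p : Fin n × Fin n // p.1 ≠ p.2} :=
      { toFun := fun y => (y.1.1.1, ⟨(y.1.1.2, y.1.2.2), fun h => y.2.2 (Prod.ext y.2.1 h)⟩)
        invFun := fun p => ⟨((p.1, p.2.1.1), (p.1, p.2.1.2)), rfl, fun h => p.2.2 (congrArg Prod.snd h)⟩
        left_inv := by
          rintro ⟨⟨⟨a, b⟩, ⟨c, d⟩⟩, h1, h2⟩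
          change a = c at h1
          subst h1
          rfl
        right_inv := fun p => rfl }
    rw [Nat.card_congr eq, Nat.card_prod, Nat.card_eq_fintype_card (α := {p : Fin n × Fin n // p.1 ≠ p.2}),
      Fintype.card_of_subtype (Finset.univ : Finset (Fin n)).offDiag (by simp), Finset.offDiag_card, Finset.card_univ,
      Fintype.card_fin]
  -- the number of blocks is a power of two
  obtain ⟨a, ha⟩ : ∃ a, Nat.card I = 2 ^ a := by
    let k₀ : Fin n := ⟨0, by omega⟩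
    let actI : MulAction (T : Subgroup P) I :=
      { smul := fun t i => (S.σ t (i, k₀)).1
        one_smul := fun i => by
          show (S.σ 1 (i, k₀)).1 = i
          rw [map_one]; rfl
        mul_smul := fun t t' i => by
          show (S.σ (t * t') (i, k₀)).1 = (S.σ t ((S.σ t' (i, k₀)).1, k₀)).1
          rw [map_mul, Equiv.Perm.mul_apply, S.blk t _ k₀ (S.σ t' (i, k₀)).2] }
    obtain ⟨a, ha⟩ := T.isPGroup'.card_orbit (α := I) i
    refine ⟨a, ?_⟩
    rw [← ha]
    have h1 : MulAction.orbit (T : Subgroup P) i = Set.univ := by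
      ext j
      simp only [Set.mem_univ, iff_true]
      obtain ⟨t, ht, htj⟩ := S.trans i j
      exact ⟨⟨t, ht⟩, htj k₀⟩
    rw [h1, Nat.card_coe_set_eq, Set.ncard_univ]
  obtain ⟨c, hc⟩ := S.npow
  have hdvd : 2 ^ (a + c) ∣ Nat.card Y := by
    rw [hcardY, ha, pow_add]
    apply Nat.mul_dvd_mul_left
    have : n * n - n = 2 ^ c * n := by
      have h1 : n * n = 2 ^ c * n + n := by
        nth_rewrite 1 [hc]; ring
      omega
    rw [this]
    exact Dvd.intro _ rfl
  let y₀ : Y := ⟨((i, f i), (i, k)), rfl, fun h => hk (congrArg Prod.snd h).symm⟩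
  have h1 := H894.dvd_card_orbit htr T y₀ (a + c) hdvd
  have h2 : 0 < Nat.card (MulAction.orbit (T : Subgroup P) y₀) := by
    have : Nonempty (MulAction.orbit (T : Subgroup P) y₀) := ⟨⟨y₀, MulAction.mem_orbit_self y₀⟩⟩
    exact Nat.card_pos
  have h3 := Nat.le_of_dvd h2 h1
  -- the orbit injects into the points different from the `f i`
  let Z : Set (I × Fin n) := {z | z.2 ≠ f z.1}
  have hZ : Z.ncard ≤ 2 ^ (a + c) := by
    have e1 : Z = Set.univ \ Set.range (fun i => (i, f i)) := by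
      ext ⟨x, y⟩
      simp only [Z, Set.mem_ofPred_eq, Set.mem_sdiff, Set.mem_univ, true_and, Set.mem_range, Prod.mk.injEq, exists_eq_left]
      exact ⟨fun h e => h e.symm, fun h e => h e.symm⟩
    rw [e1, Set.ncard_sdiff (Set.subset_univ _), Set.ncard_univ, Nat.card_prod, Nat.card_fin, ← Nat.card_coe_set_eq,
      Nat.card_range_of_injective (fun x y h => congrArg Prod.fst h), ha, pow_add]
    have : 2 ^ a * n = 2 ^ a * 2 ^ c + 2 ^ a := by
      nth_rewrite 1 [hc]; ring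
    omega
  have hmap : (fun y : Y => y.1.2) '' (MulAction.orbit (T : Subgroup P) y₀) ⊆ Z := by
    rintro _ ⟨_, ⟨t, rfl⟩, rfl⟩
    show ((t • y₀ : Y)).1.2.2 ≠ f ((t • y₀ : Y)).1.2.1
    change (S.σ (t : P) (i, k)).2 ≠ f (S.σ (t : P) (i, k)).1
    intro h
    have h4 := hf t t.2 i (S.σ (t : P) (i, k)).1 (S.blk _ _ _ _)
    rw [← h] at h4
    exact hk (congrArg Prod.snd ((S.σ (t : P)).injective h4)).symm
  have hinj : Set.InjOn (fun y : Y => y.1.2) (MulAction.orbit (T : Subgroup P) y₀) := by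
    rintro _ ⟨t, rfl⟩ _ ⟨t', rfl⟩ h
    change S.σ (t : P) (i, k) = S.σ (t' : P) (i, k) at h
    apply Subtype.ext
    apply Prod.ext
    · show S.σ (t : P) (i, f i) = S.σ (t' : P) (i, f i)
      rw [hf t t.2 i _ (S.blk _ _ _ k), hf t' t'.2 i _ (S.blk _ _ _ k), h]
    · exact h
  have hcard := hinj.ncard_image
  have heq := Set.eq_of_subset_of_ncard_le hmap (by
    rw [hcard, ← Nat.card_coe_set_eq]
    exact hZ.trans h3)
  have hjl : (j, l) ∈ Z := hl
  rw [← heq] at hjl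
  obtain ⟨_, ⟨t, rfl⟩, ht⟩ := hjl
  exact ⟨t, t.2, ht⟩

/-- every permutation preserving all orbits of an extremal quadratic group belongs to it -/
theorem full_of_eq (A : Subgroup (Equiv.Perm (I × Fin n))) (hA : Qd A)
    (heq : (S.Cn A).relIndex (⁅pCore 2 P, pResidual 2 P⁆ : Subgroup P) ≤ Nat.card A) (g : Equiv.Perm (I × Fin n))
    (hg : ∀ x, ∃ a ∈ A, g x = a x) : g ∈ A := by
  have hfin := S.fin
  have hns := S.no_swap A hA heq
  let M : Subgroup (Equiv.Perm (I × Fin n)) :=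
    { carrier := {g | ∀ x, ∃ a ∈ A, g x = a x}
      one_mem' := fun x => ⟨1, A.one_mem, rfl⟩
      mul_mem' := by
        intro g h hg hh x
        obtain ⟨a, ha, hax⟩ := hh x
        obtain ⟨b, hb, hbx⟩ := hg (h x)
        exact ⟨b * a, A.mul_mem hb ha, by rw [Equiv.Perm.mul_apply, hbx, hax, Equiv.Perm.mul_apply]⟩
      inv_mem' := by
        intro g hg x
        obtain ⟨a, ha, hax⟩ := hg (g⁻¹ x)
        have h1 : g (g⁻¹ x) = x := g.apply_symm_apply x
        rw [h1] at hax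
        refine ⟨a⁻¹, A.inv_mem ha, ?_⟩
        have h2 : a⁻¹ x = g⁻¹ x := by
          conv_lhs => rw [hax]
          exact a.symm_apply_apply _
        exact h2.symm }
  have hAM : A ≤ M := fun a ha x => ⟨a, ha, rfl⟩
  have hM1 : ∀ g ∈ M, ∀ x, (g x).1 = x.1 := by
    intro g hg x
    obtain ⟨a, ha, hax⟩ := hg x
    rw [hax, hns a ha]
  have hM : Qd M := by
    refine ⟨fun g hg i k k' => by rw [hM1 g hg, hM1 g hg], ?_, ?_, ?_⟩
    · intro g hg h hh x hgx hhx
      obtain ⟨a, ha, hax⟩ := hg x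
      obtain ⟨b, hb, hbx⟩ := hh x
      rw [hax, hbx]
      exact hA.orb a ha b hb x (by rw [← hax]; exact hgx) (by rw [← hbx]; exact hhx)
    · intro g hg h hh i k l h1
      exact absurd (hM1 g hg (i, k)) h1
    · intro i
      obtain ⟨k, hk⟩ := hA.fx i
      refine ⟨k, fun g hg _ => ?_⟩
      obtain ⟨a, ha, hax⟩ := hg (i, k)
      rw [hax]
      exact hk a ha (hns a ha _)
  have h1 := S.count M hM
  have h2 : S.Cn A ≤ S.Cn M := by
    rintro w ⟨hw, hwa⟩
    refine ⟨hw, fun g hg x => ?_⟩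
    obtain ⟨a, ha, hax⟩ := hg x
    rw [hax, hwa a ha]
  have h3 : (S.Cn M).relIndex (⁅pCore 2 P, pResidual 2 P⁆ : Subgroup P) ≤
      (S.Cn A).relIndex (⁅pCore 2 P, pResidual 2 P⁆ : Subgroup P) :=
    Subgroup.relIndex_le_of_le_left h2 (S.Cn_finite _)
  have h4 := Subgroup.eq_of_le_of_card_ge hAM (h1.trans (h3.trans heq))
  rw [h4]
  exact hg

end Sy

/-- **the case of equality** -/
theorem offEq [Finite P] (T : Sylow 2 P) (S : Sy (T : Subgroup P) I n) : OffEq S := by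
  classical
  intro X hX hXQ heq
  have hfin := S.fin
  have hT : IsPGroup 2 (T : Subgroup P) := T.isPGroup'
  have hQT : pCore 2 P ≤ (T : Subgroup P) := Lib.Cores.pCore_le_sylow T
  set A := X.map S.σ with hAdef
  have hA : Qd A := S.qd hT hQT hX
  rw [S.card_map] at heq
  have hle := S.cent_le_Cn (X := X)
  rw [← hAdef] at hle heq
  have h0 : (⁅pCore 2 P, pResidual 2 P⁆ ⊓ Subgroup.centralizer (X : Set P)).relIndex
      (⁅pCore 2 P, pResidual 2 P⁆ : Subgroup P) ≠ 0 := Subgroup.index_ne_zero_of_finite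
  have h1 : (S.Cn A).relIndex (⁅pCore 2 P, pResidual 2 P⁆ : Subgroup P) ≤ Nat.card A :=
    (Subgroup.relIndex_le_of_le_left hle h0).trans heq
  have h2 := S.count A hA
  -- `C_W(X)` is everything
  have h3 : S.Cn A ≤ ⁅pCore 2 P, pResidual 2 P⁆ ⊓ Subgroup.centralizer (X : Set P) := by
    have h4 := Subgroup.relIndex_mul_relIndex _ _ _ hle (S.Cn_le A)
    have h5 := S.Cn_finite (B := A) (⁅pCore 2 P, pResidual 2 P⁆ : Subgroup P)
    rw [← Subgroup.relIndex_eq_one]
    have h6 : (⁅pCore 2 P, pResidual 2 P⁆ ⊓ Subgroup.centralizer (X : Set P)).relIndex (S.Cn A) *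
        (S.Cn A).relIndex (⁅pCore 2 P, pResidual 2 P⁆ : Subgroup P) ≤
        1 * (S.Cn A).relIndex (⁅pCore 2 P, pResidual 2 P⁆ : Subgroup P) := by
      rw [h4, one_mul]
      exact heq.trans h2
    have h7 := Nat.le_of_mul_le_mul_right h6 (Nat.pos_of_ne_zero h5)
    have h8 : (⁅pCore 2 P, pResidual 2 P⁆ ⊓ Subgroup.centralizer (X : Set P)).relIndex (S.Cn A) ≠ 0 :=
      Subgroup.index_ne_zero_of_finite
    omega
  have hns := S.no_swap A hA h1
  have hfixb : ∀ a ∈ X, ∀ x, (S.σ a x).1 = x.1 := fun a ha x => hns _ ⟨a, ha, rfl⟩ x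
  -- the fixed points
  obtain ⟨f, hf⟩ := S.exists_f hT
  have hfX : ∀ i, ∀ a ∈ X, S.σ a (i, f i) = (i, f i) := fun i a ha => hf a (hX.le ha) i i (hfixb a ha _)
  have hmoveT : ∀ t ∈ (T : Subgroup P), ∀ x, (∀ a ∈ X, S.σ a x = x) → ∀ a ∈ X, S.σ a (S.σ t x) = S.σ t x := by
    intro t ht x hx a ha
    have h4 : t⁻¹ * a * t ∈ X := by
      have := (Subgroup.mem_normalizer_iff.1 (hX.nor (inv_mem ht)) a).1 ha
      rwa [inv_inv] at this
    have h5 := hx _ h4
    have h6 : a * t = t * (t⁻¹ * a * t) := by group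
    rw [← Equiv.Perm.mul_apply, ← map_mul, h6, map_mul, Equiv.Perm.mul_apply, h5]
  have hXne : ¬ ∀ a ∈ X, ∀ x, S.σ a x = x := by
    intro h
    apply hXQ
    intro a ha
    rw [← S.σker]
    exact Equiv.ext (h a ha)
  have hfp : ∀ i k, (∀ a ∈ X, S.σ a (i, k) = (i, k)) → k = f i := by
    intro i k hk
    by_contra hne
    apply hXne
    by_cases hn : 4 ≤ n
    · intro a ha x
      obtain ⟨j, l⟩ := x
      by_cases hl : l = f j
      · rw [hl]; exact hfX j a ha
      · obtain ⟨t, ht, hti⟩ := Sy.trans2 T S hn f hf i j k l hne hl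
        rw [← hti]
        exact hmoveT t ht _ hk a ha
    · -- three points
      have hn3 : n = 3 := by have := S.n3; omega
      have hall : ∀ l, ∀ a ∈ X, S.σ a (i, l) = (i, l) := by
        intro l a ha
        by_cases h4 : l = f i
        · rw [h4]; exact hfX i a ha
        by_cases h5 : l = k
        · rw [h5]; exact hk a ha
        have h6 : S.σ a (i, l) = (i, (S.σ a (i, l)).2) := Prod.ext (hfixb a ha _) rfl
        have h7 : (S.σ a (i, l)).2 ≠ f i := by
          intro e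
          rw [e, ← hfX i a ha] at h6
          exact h4 (congrArg Prod.snd ((S.σ a).injective h6))
        have h8 : (S.σ a (i, l)).2 ≠ k := by
          intro e
          rw [e] at h6
          rw [← hk a ha] at h6
          exact h5 (congrArg Prod.snd ((S.σ a).injective h6))
        by_contra h9
        have h10 : (S.σ a (i, l)).2 ≠ l := by
          intro e
          rw [e] at h6
          exact h9 h6
        have h11 : ({f i, k, l, (S.σ a (i, l)).2} : Finset (Fin n)).card ≤ 3 := by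
          refine (Finset.card_le_univ _).trans ?_
          rw [Fintype.card_fin, hn3]
        rw [Finset.card_insert_of_notMem, Finset.card_insert_of_notMem, Finset.card_insert_of_notMem,
          Finset.card_singleton] at h11
        · omega
        · rw [Finset.mem_singleton]; exact Ne.symm h10
        · rw [Finset.mem_insert, Finset.mem_singleton, not_or]
          exact ⟨Ne.symm h5, Ne.symm h8⟩
        · rw [Finset.mem_insert, Finset.mem_insert, Finset.mem_singleton, not_or, not_or]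
          exact ⟨Ne.symm hne, Ne.symm h4, Ne.symm h7⟩
      intro a ha x
      obtain ⟨j, l⟩ := x
      obtain ⟨t, ht, htj⟩ := S.trans j i
      have h4 : S.σ t (j, l) = (i, (S.σ t (j, l)).2) := Prod.ext (htj l) rfl
      have h5 := hmoveT t⁻¹ (inv_mem ht) _ (hall (S.σ t (j, l)).2) a ha
      have h6 : S.σ t⁻¹ (i, (S.σ t (j, l)).2) = (j, l) := by
        rw [← h4, ← Equiv.Perm.mul_apply, ← map_mul, inv_mul_cancel, map_one]; rfl
      rw [h6] at h5
      exact h5
  refine ⟨hfixb, ⟨f, fun i k => ⟨hfp i k, fun h => by rw [h]; exact hfX i⟩⟩, ?_, ?_, ?_⟩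
  · intro a ha b hb x h4 h5
    exact hA.orb _ ⟨a, ha, rfl⟩ _ ⟨b, hb, rfl⟩ x h4 h5
  · intro g hg
    obtain ⟨a, ha, hag⟩ := S.full_of_eq A hA h1 g fun x => by
      obtain ⟨a, ha, hax⟩ := hg x
      exact ⟨_, ⟨a, ha, rfl⟩, hax⟩
    exact ⟨a, ha, hag⟩
  · intro w hw hwa a ha
    have h4 : w ∈ S.Cn A := ⟨hw, by rintro _ ⟨b, hb, rfl⟩ x; exact hwa b hb x⟩
    exact ((Subgroup.mem_centralizer_iff.1 (h3 h4).2) a ha).symm

/-- `StOff` in the symmetric case -/
theorem stOff_sym [Finite P] (T : Sylow 2 P) (S : Sy (T : Subgroup P) I n) : OffBound (T : Subgroup P) :=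
  offBound T.isPGroup' (Lib.Cores.pCore_le_sylow T) S

end Cfsg.Agent.H41.HM
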