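import Mathlib

/-!
# S5175, symmetric blocks: recovering the points (helper41)

An automorphism of the even-weight module over `F₂`, compatible with the alternating group, is induced by a permutation
of the points.
-/

set_option autoImplicit false
set_option linter.unusedSimpArgs false
set_option linter.unusedSectionVars false

namespace Cfsg.Agent.H41.HM

variable {X : Type*} [Fintype X] [DecidableEq X]

/-- the even vectors -/
def Ev (X : Type*) [Fintype X] : AddSubgroup (X → ZMod 2) where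
  carrier := {v | ∑ k, v k = 0}
  zero_mem' := by simp
  add_mem' := fun {a b} ha hb => by
    rw [Set.mem_ofPred_eq] at ha hb ⊢
    simp only [Pi.add_apply]
    rw [Finset.sum_add_distrib, ha, hb, add_zero]
  neg_mem' := fun {a} ha => by
    rw [Set.mem_ofPred_eq] at ha ⊢
    simp only [Pi.neg_apply]
    rw [Finset.sum_neg_distrib, ha, neg_zero]

omit [DecidableEq X] in
theorem mem_Ev {v : X → ZMod 2} : v ∈ Ev X ↔ ∑ k, v k = 0 := Iff.rfl

/-- the action of a permutation -/
def pa (h : Equiv.Perm X) (v : X → ZMod 2) : X → ZMod 2 := fun k => v (h⁻¹ k)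

omit [DecidableEq X] in
theorem pa_mem (h : Equiv.Perm X) {v : X → ZMod 2} (hv : v ∈ Ev X) : pa h v ∈ Ev X := by
  rw [mem_Ev] at hv ⊢
  rw [← hv]
  exact Equiv.sum_comp (h⁻¹ : Equiv.Perm X) v

/-- the vector `e_a + e_b` -/
def e2 (a b : X) : X → ZMod 2 := fun k => (if k = a then 1 else 0) + (if k = b then 1 else 0)

theorem two2 (a : ZMod 2) : a + a = 0 := CharTwo.add_self_eq_zero a

theorem e2_mem (a b : X) : e2 a b ∈ Ev X := by
  rw [mem_Ev]
  unfold e2
  rw [Finset.sum_add_distrib, Finset.sum_ite_eq' Finset.univ a, Finset.sum_ite_eq' Finset.univ b]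
  simp only [Finset.mem_univ, if_true]
  exact two2 1

omit [Fintype X] in
theorem e2_comm (a b : X) : e2 a b = e2 b a := by
  funext k; exact add_comm _ _

omit [Fintype X] in
theorem e2_self (a : X) : e2 a a = 0 := by
  funext k; exact two2 _

omit [Fintype X] in
theorem e2_add (a b c : X) : e2 a b + e2 a c = e2 b c := by
  funext k
  show ((if k = a then (1 : ZMod 2) else 0) + (if k = b then 1 else 0)) + ((if k = a then 1 else 0) + (if k = c then 1 else 0)) = _
  have h := two2 (if k = a then (1 : ZMod 2) else 0)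
  unfold e2
  linear_combination h

omit [Fintype X] in
theorem pa_e2 (h : Equiv.Perm X) (a b : X) : pa h (e2 a b) = e2 (h a) (h b) := by
  funext k
  unfold pa e2
  simp only [Equiv.Perm.inv_eq_iff_eq]

theorem zmod2 (x : ZMod 2) : x = 0 ∨ x = 1 := by
  revert x; decide

omit [Fintype X] in
theorem e2_ne {a b : X} (hab : a ≠ b) : e2 a b ≠ 0 := by
  intro h
  have h1 := congrFun h a
  simp [e2, hab] at h1

/-- **L1** -/
theorem weight_two {h : Equiv.Perm X} (h3 : h ^ 3 = 1) (S : Finset (X → ZMod 2)) (hS : ∀ v ∈ Ev X, v + pa h v ∈ S)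
    (hc : S.card ≤ 4) {v : X → ZMod 2} (_hv : v ∈ Ev X) (h0 : v + pa h v ≠ 0) :
    ∃ a b, a ≠ b ∧ v + pa h v = e2 a b := by
  have hh : ∀ x, h (h (h x)) = x := fun x => by
    have := DFunLike.congr_fun h3 x
    simpa [pow_succ] using this
  have hinv : ∀ x, h⁻¹ x = h (h x) := fun x => by
    rw [Equiv.Perm.inv_eq_iff_eq]; exact (hh x).symm
  obtain ⟨a, ha⟩ : ∃ a, h a ≠ a := by
    by_contra hcon
    push Not at hcon
    apply h0
    funext k
    show v k + v (h⁻¹ k) = 0
    rw [hinv, hcon, hcon]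
    exact two2 _
  set b := h a with hb
  set c := h b with hcc
  have hca : h c = a := hh a
  have hbc : b ≠ c := fun e => ha (h.injective (by rw [← hcc, ← e]))
  have hac : a ≠ c := fun e => by
    have : h a = h c := by rw [← e]
    rw [hca] at this
    exact ha this
  have hfix : ∀ d, d ≠ a → d ≠ b → d ≠ c → h d = d := by
    intro d hda hdb hdc
    by_contra hd
    have h1 : h d ≠ a := fun e => hdc (h.injective (by rw [e, hca]))
    have h2 : h d ≠ b := fun e => hda (h.injective (by rw [e]))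
    have h3' : h d ≠ c := fun e => hdb (h.injective (by rw [e]))
    let ev : (X → ZMod 2) → ZMod 2 × ZMod 2 × ZMod 2 × ZMod 2 := fun f => (f a, f b, f c, f d)
    have hsub : ({(0, 0, 0, 0), (1, 0, 1, 0), (1, 1, 0, 0), (0, 1, 1, 0), (1, 1, 0, 1)} :
        Finset (ZMod 2 × ZMod 2 × ZMod 2 × ZMod 2)) ⊆ S.image ev := by
      intro y hy
      simp only [Finset.mem_insert, Finset.mem_singleton] at hy
      rw [Finset.mem_image]
      rcases hy with rfl | rfl | rfl | rfl | rfl
      · refine ⟨_, hS 0 (zero_mem _), ?_⟩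
        simp [ev, pa]
      · refine ⟨_, hS (e2 a b) (e2_mem a b), ?_⟩
        rw [pa_e2, ← hb, ← hcc]
        simp [ev, e2, ha, ha.symm, hbc, hbc.symm, hac, hac.symm, hda, hdb, hdc]
        decide
      · refine ⟨_, hS (e2 b c) (e2_mem b c), ?_⟩
        rw [pa_e2, ← hcc, hca]
        simp [ev, e2, ha, ha.symm, hbc, hbc.symm, hac, hac.symm, hda, hdb, hdc]
        decide
      · refine ⟨_, hS (e2 c a) (e2_mem c a), ?_⟩
        rw [pa_e2, hca, ← hb]
        simp [ev, e2, ha, ha.symm, hbc, hbc.symm, hac, hac.symm, hda, hdb, hdc]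
        decide
      · refine ⟨_, hS (e2 a d) (e2_mem a d), ?_⟩
        rw [pa_e2, ← hb]
        simp [ev, e2, ha, ha.symm, hbc, hbc.symm, hac, hac.symm, hda, hdb, hdc, h1, h1.symm, h2, h2.symm, h3', h3'.symm,
          Ne.symm hd, Ne.symm hda, Ne.symm hdb, Ne.symm hdc]
    have h4 := Finset.card_le_card hsub
    have h5 : (({(0, 0, 0, 0), (1, 0, 1, 0), (1, 1, 0, 0), (0, 1, 1, 0), (1, 1, 0, 1)} :
        Finset (ZMod 2 × ZMod 2 × ZMod 2 × ZMod 2))).card = 5 := by decide
    have h6 : (S.image ev).card ≤ S.card := Finset.card_image_le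
    omega
  have hfix' : ∀ d, d ≠ a → d ≠ b → d ≠ c → (v + pa h v) d = 0 := by
    intro d hda hdb hdc
    show v d + v (h⁻¹ d) = 0
    rw [hinv, hfix d hda hdb hdc, hfix d hda hdb hdc]
    exact two2 _
  have va : (v + pa h v) a = v a + v c := by
    show v a + v (h⁻¹ a) = _
    rw [hinv]
  have vb : (v + pa h v) b = v b + v a := by
    show v b + v (h⁻¹ b) = _
    rw [hinv, ← hcc, hca]
  have vc : (v + pa h v) c = v c + v b := by
    show v c + v (h⁻¹ c) = _
    rw [hinv, hca]
  have key : ∀ x y : X, (∀ d, d ≠ x → d ≠ y → (v + pa h v) d = 0) → (v + pa h v) x = 1 → (v + pa h v) y = 1 →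
      x ≠ y → v + pa h v = e2 x y := by
    intro x y h1 h2 h3 hxy
    funext d
    by_cases hdx : d = x
    · rw [hdx, h2]
      simp [e2, hxy]
    · by_cases hdy : d = y
      · rw [hdy, h3]
        simp [e2, hxy.symm]
      · rw [h1 d hdx hdy]
        simp [e2, hdx, hdy]
  have hw : ((v + pa h v) a = 0 ∧ (v + pa h v) b = 0 ∧ (v + pa h v) c = 0) ∨
      ((v + pa h v) a = 1 ∧ (v + pa h v) b = 1 ∧ (v + pa h v) c = 0) ∨
      ((v + pa h v) a = 1 ∧ (v + pa h v) b = 0 ∧ (v + pa h v) c = 1) ∨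
      ((v + pa h v) a = 0 ∧ (v + pa h v) b = 1 ∧ (v + pa h v) c = 1) := by
    rw [va, vb, vc]
    generalize v a = x
    generalize v b = y
    generalize v c = z
    revert x y z
    decide
  rcases hw with ⟨wa, wb, wc⟩ | ⟨wa, wb, wc⟩ | ⟨wa, wb, wc⟩ | ⟨wa, wb, wc⟩
  · exfalso
    apply h0
    funext d
    by_cases hda : d = a
    · rw [hda]; exact wa
    · by_cases hdb : d = b
      · rw [hdb]; exact wb
      · by_cases hdc : d = c
        · rw [hdc]; exact wc
        · exact hfix' d hda hdb hdc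
  · refine ⟨a, b, ha.symm, key a b (fun d h1 h2 => ?_) wa wb ha.symm⟩
    by_cases hdc : d = c
    · rw [hdc]; exact wc
    · exact hfix' d h1 h2 hdc
  · refine ⟨a, c, hac, key a c (fun d h1 h2 => ?_) wa wc hac⟩
    by_cases hdb : d = b
    · rw [hdb]; exact wb
    · exact hfix' d h1 hdb h2
  · refine ⟨b, c, hbc, key b c (fun d h1 h2 => ?_) wb wc hbc⟩
    by_cases hda : d = a
    · rw [hda]; exact wa
    · exact hfix' d hda h1 h2

/-- the 3-cycle -/
def c3 (a b c : X) : Equiv.Perm X := Equiv.swap a b * Equiv.swap b c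

omit [Fintype X] in
theorem c3_a {a b c : X} (hab : a ≠ b) (hac : a ≠ c) : c3 a b c a = b := by
  unfold c3
  rw [Equiv.Perm.mul_apply, Equiv.swap_apply_of_ne_of_ne hab hac, Equiv.swap_apply_left]

omit [Fintype X] in
theorem c3_b {a b c : X} (hac : a ≠ c) (hbc : b ≠ c) : c3 a b c b = c := by
  unfold c3
  rw [Equiv.Perm.mul_apply, Equiv.swap_apply_left, Equiv.swap_apply_of_ne_of_ne hac.symm hbc.symm]

omit [Fintype X] in
theorem c3_c {a b c : X} : c3 a b c c = a := by
  unfold c3
  rw [Equiv.Perm.mul_apply, Equiv.swap_apply_right, Equiv.swap_apply_right]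

omit [Fintype X] in
theorem c3_d {a b c d : X} (hda : d ≠ a) (hdb : d ≠ b) (hdc : d ≠ c) : c3 a b c d = d := by
  unfold c3
  rw [Equiv.Perm.mul_apply, Equiv.swap_apply_of_ne_of_ne hdb hdc, Equiv.swap_apply_of_ne_of_ne hda hdb]

omit [Fintype X] in
theorem c3_pow {a b c : X} (hab : a ≠ b) (hac : a ≠ c) (hbc : b ≠ c) : c3 a b c ^ 3 = 1 := by
  ext d
  rw [pow_succ, pow_succ, pow_one]
  simp only [Equiv.Perm.mul_apply, Equiv.Perm.one_apply]
  by_cases hda : d = a
  · rw [hda, c3_a hab hac, c3_b hac hbc, c3_c]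
  · by_cases hdb : d = b
    · rw [hdb, c3_b hac hbc, c3_c, c3_a hab hac]
    · by_cases hdc : d = c
      · rw [hdc, c3_c, c3_a hab hac, c3_b hac hbc]
      · rw [c3_d hda hdb hdc, c3_d hda hdb hdc, c3_d hda hdb hdc]

theorem c3_sign {a b c : X} (hab : a ≠ b) (hbc : b ≠ c) : c3 a b c ∈ alternatingGroup X := by
  rw [Equiv.Perm.mem_alternatingGroup]
  unfold c3
  rw [map_mul, Equiv.Perm.sign_swap hab, Equiv.Perm.sign_swap hbc]
  decide

theorem c3_comm {a b c : X} (hab : a ≠ b) (hac : a ≠ c) (hbc : b ≠ c) (v : X → ZMod 2) :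
    v + pa (c3 a b c) v = 0 ∨ v + pa (c3 a b c) v = e2 a b ∨ v + pa (c3 a b c) v = e2 b c ∨
      v + pa (c3 a b c) v = e2 a c := by
  have hinv : ∀ x, (c3 a b c)⁻¹ x = c3 a b c (c3 a b c x) := fun x => by
    rw [Equiv.Perm.inv_eq_iff_eq]
    have := DFunLike.congr_fun (c3_pow hab hac hbc) x
    rw [pow_succ, pow_succ, pow_one] at this
    simp only [Equiv.Perm.mul_apply, Equiv.Perm.one_apply] at this
    exact this.symm
  have hfix' : ∀ d, d ≠ a → d ≠ b → d ≠ c → (v + pa (c3 a b c) v) d = 0 := by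
    intro d hda hdb hdc
    show v d + v ((c3 a b c)⁻¹ d) = 0
    rw [hinv, c3_d hda hdb hdc, c3_d hda hdb hdc]
    exact two2 _
  have va : (v + pa (c3 a b c) v) a = v a + v c := by
    show v a + v ((c3 a b c)⁻¹ a) = _
    rw [hinv, c3_a hab hac, c3_b hac hbc]
  have vb : (v + pa (c3 a b c) v) b = v b + v a := by
    show v b + v ((c3 a b c)⁻¹ b) = _
    rw [hinv, c3_b hac hbc, c3_c]
  have vc : (v + pa (c3 a b c) v) c = v c + v b := by
    show v c + v ((c3 a b c)⁻¹ c) = _
    rw [hinv, c3_c, c3_a hab hac]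
  have hw : ((v + pa (c3 a b c) v) a = 0 ∧ (v + pa (c3 a b c) v) b = 0 ∧ (v + pa (c3 a b c) v) c = 0) ∨
      ((v + pa (c3 a b c) v) a = 1 ∧ (v + pa (c3 a b c) v) b = 1 ∧ (v + pa (c3 a b c) v) c = 0) ∨
      ((v + pa (c3 a b c) v) a = 1 ∧ (v + pa (c3 a b c) v) b = 0 ∧ (v + pa (c3 a b c) v) c = 1) ∨
      ((v + pa (c3 a b c) v) a = 0 ∧ (v + pa (c3 a b c) v) b = 1 ∧ (v + pa (c3 a b c) v) c = 1) := by
    rw [va, vb, vc]
    generalize v a = x
    generalize v b = y
    generalize v c = z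
    revert x y z
    decide
  have key : ∀ f : X → ZMod 2, (v + pa (c3 a b c) v) a = f a → (v + pa (c3 a b c) v) b = f b →
      (v + pa (c3 a b c) v) c = f c → (∀ d, d ≠ a → d ≠ b → d ≠ c → f d = 0) → v + pa (c3 a b c) v = f := by
    intro f h1 h2 h3 h4
    funext d
    by_cases hda : d = a
    · rw [hda]; exact h1
    · by_cases hdb : d = b
      · rw [hdb]; exact h2
      · by_cases hdc : d = c
        · rw [hdc]; exact h3
        · rw [hfix' d hda hdb hdc, h4 d hda hdb hdc]
  rcases hw with ⟨wa, wb, wc⟩ | ⟨wa, wb, wc⟩ | ⟨wa, wb, wc⟩ | ⟨wa, wb, wc⟩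
  · left
    exact key 0 wa wb wc fun _ _ _ _ => rfl
  · right; left
    refine key _ ?_ ?_ ?_ ?_
    · rw [wa]; simp [e2, hab]
    · rw [wb]; simp [e2, hab.symm]
    · rw [wc]; simp [e2, hac.symm, hbc.symm]
    · intro d h1 h2 h3
      simp [e2, h1, h2]
  · right; right; right
    refine key _ ?_ ?_ ?_ ?_
    · rw [wa]; simp [e2, hac]
    · rw [wb]; simp [e2, hab.symm, hbc]
    · rw [wc]; simp [e2, hac.symm]
    · intro d h1 h2 h3
      simp [e2, h1, h3]
  · right; right; left
    refine key _ ?_ ?_ ?_ ?_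
    · rw [wa]; simp [e2, hab, hac]
    · rw [wb]; simp [e2, hbc]
    · rw [wc]; simp [e2, hbc.symm]
    · intro d h1 h2 h3
      simp [e2, h2, h3]

/-- the action on even vectors -/
def paE (h : Equiv.Perm X) (v : Ev X) : Ev X := ⟨pa h v, pa_mem h v.2⟩

/-- weight two vectors -/
def w2 (a b : X) : Ev X := ⟨e2 a b, e2_mem a b⟩

theorem coe_w2 (a b : X) : (w2 a b : X → ZMod 2) = e2 a b := rfl

theorem w2_add (a b c : X) : w2 a b + w2 a c = w2 b c := Subtype.ext (e2_add a b c)

theorem w2_comm (a b : X) : w2 a b = w2 b a := Subtype.ext (e2_comm a b)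

theorem w2_self (a : X) : w2 a a = 0 := Subtype.ext (e2_self a)

theorem w2_ne {a b : X} (hab : a ≠ b) : w2 a b ≠ 0 := fun h => e2_ne hab (congrArg Subtype.val h)

/-- even vectors separate the points -/
theorem perm_eq_one (h3 : 3 ≤ Fintype.card X) {h : Equiv.Perm X} (hv : ∀ v : Ev X, pa h v = v) : h = 1 := by
  ext a
  by_contra hne
  rw [Equiv.Perm.one_apply] at hne
  have hia : h⁻¹ (h a) = a := by rw [Equiv.Perm.inv_eq_iff_eq]
  obtain ⟨c, hc⟩ : ∃ c, c ∉ ({a, h a} : Finset X) := by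
    by_contra hcon
    push Not at hcon
    have h1 : (Finset.univ : Finset X) ⊆ {a, h a} := fun x _ => hcon x
    have h2 := Finset.card_le_card h1
    rw [Finset.card_univ] at h2
    have h4 := Finset.card_le_two (a := a) (b := h a)
    omega
  simp only [Finset.mem_insert, Finset.mem_singleton, not_or] at hc
  have h1 := congrFun (hv (w2 a c)) (h a)
  have h2 : pa h (w2 a c) (h a) = e2 a c a := by
    show e2 a c (h⁻¹ (h a)) = _
    rw [hia]
  rw [h2] at h1
  have h3 : (w2 a c : X → ZMod 2) (h a) = 0 := by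
    rw [coe_w2]
    simp [e2, hne, Ne.symm hc.2]
  rw [h3] at h1
  simp [e2, Ne.symm hc.1] at h1

theorem pa_mul (h g : Equiv.Perm X) (v : X → ZMod 2) : pa (h * g) v = pa h (pa g v) := by
  funext k
  show v ((h * g)⁻¹ k) = v (g⁻¹ (h⁻¹ k))
  rw [mul_inv_rev]
  rfl

theorem pa_one (v : X → ZMod 2) : pa 1 v = v := rfl

/-- every even vector is a sum of vectors of weight two -/
theorem sum_w2 (a : X) (v : Ev X) : v = ∑ l, ((v : X → ZMod 2) l).val • w2 a l := by
  apply Subtype.ext
  rw [AddSubgroup.val_finsetSum]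
  funext k
  rw [Finset.sum_apply]
  have h1 : ∀ l, (((((v : X → ZMod 2) l).val • w2 a l : Ev X) : X → ZMod 2)) k = (v : X → ZMod 2) l * e2 a l k := by
    intro l
    rw [AddSubgroup.coe_nsmul, coe_w2, Pi.smul_apply, nsmul_eq_mul, ZMod.natCast_zmod_val]
  rw [Finset.sum_congr rfl fun l _ => h1 l]
  unfold e2
  simp only [mul_add]
  rw [Finset.sum_add_distrib, ← Finset.sum_mul, mem_Ev.1 v.2, zero_mul, zero_add]
  simp

variable (β : Ev X →+ Ev X) (hβ : Function.Injective β) (h3 : 3 ≤ Fintype.card X)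
  (hc : ∀ h ∈ alternatingGroup X, ∃ h' : Equiv.Perm X, ∀ v : Ev X, (β (paE h v) : X → ZMod 2) = pa h' (β v))

include hβ h3 hc

theorem exists_third (a b : X) : ∃ c : X, c ≠ a ∧ c ≠ b := by
  obtain ⟨c, hc⟩ : ∃ c, c ∉ ({a, b} : Finset X) := by
    by_contra hcon
    push Not at hcon
    have h1 : (Finset.univ : Finset X) ⊆ {a, b} := fun x _ => hcon x
    have h2 := Finset.card_le_card h1
    rw [Finset.card_univ] at h2
    have h4 := Finset.card_le_two (a := a) (b := b)
    omega
  simp only [Finset.mem_insert, Finset.mem_singleton, not_or] at hc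
  exact ⟨c, hc.1, hc.2⟩

/-- **L2** -/
theorem beta_w2 {a b : X} (hab : a ≠ b) : ∃ x y : X, x ≠ y ∧ β (w2 a b) = w2 x y := by
  have hbj : Function.Bijective β := Finite.injective_iff_bijective.1 hβ
  obtain ⟨c, hca, hcb⟩ := exists_third β hβ h3 hc a b
  obtain ⟨h', hh'⟩ := hc (c3 a b c) (c3_sign hab hcb.symm)
  have hpow : h' ^ 3 = 1 := by
    apply perm_eq_one h3
    intro v
    obtain ⟨u, rfl⟩ := hbj.2 v
    have e1 : pa (h' ^ 3) (β u) = pa h' (pa h' (pa h' (β u))) := by
      rw [pow_succ, pow_succ, pow_one, pa_mul, pa_mul]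
    rw [e1, ← hh' u, ← hh' (paE (c3 a b c) u), ← hh' (paE (c3 a b c) (paE (c3 a b c) u))]
    congr 2
    apply Subtype.ext
    show pa (c3 a b c) (pa (c3 a b c) (pa (c3 a b c) u)) = u
    rw [← pa_mul, ← pa_mul]
    have : c3 a b c * c3 a b c * c3 a b c = 1 := by
      rw [← c3_pow hab hca.symm hcb.symm, pow_succ, pow_succ, pow_one]
    rw [this, pa_one]
  let S : Finset (X → ZMod 2) := {(β 0 : X → ZMod 2), (β (w2 a b) : X → ZMod 2), (β (w2 b c) : X → ZMod 2),
    (β (w2 a c) : X → ZMod 2)}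
  have hS : ∀ v ∈ Ev X, v + pa h' v ∈ S := by
    intro v hv
    obtain ⟨u, hu⟩ := hbj.2 ⟨v, hv⟩
    have hu' : (β u : X → ZMod 2) = v := congrArg Subtype.val hu
    rw [← hu', ← hh' u, ← AddSubgroup.coe_add, ← map_add]
    have h4 := c3_comm hab hca.symm hcb.symm (u : X → ZMod 2)
    simp only [S, Finset.mem_insert, Finset.mem_singleton]
    rcases h4 with h4 | h4 | h4 | h4
    · left; congr 2; exact Subtype.ext h4
    · right; left; congr 2; exact Subtype.ext h4
    · right; right; left; congr 2; exact Subtype.ext h4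
    · right; right; right; congr 2; exact Subtype.ext h4
  have hSc : S.card ≤ 4 := Finset.card_le_four
  -- `w2 a b = u + h u` for `u = w2 b c`
  have hu : w2 b c + paE (c3 a b c) (w2 b c) = w2 a b := by
    apply Subtype.ext
    show e2 b c + pa (c3 a b c) (e2 b c) = e2 a b
    rw [pa_e2, c3_b hca.symm hcb.symm, c3_c, e2_comm b c, e2_add c b a, e2_comm]
  have h5 : (β (w2 b c) : X → ZMod 2) + pa h' (β (w2 b c)) = β (w2 a b) := by
    rw [← hh', ← AddSubgroup.coe_add, ← map_add, hu]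
  have h6 : (β (w2 b c) : X → ZMod 2) + pa h' (β (w2 b c)) ≠ 0 := by
    rw [h5]
    intro h
    have h7 : β (w2 a b) = β 0 := by rw [map_zero]; exact Subtype.ext h
    exact w2_ne hab (hβ h7)
  obtain ⟨x, y, hxy, h7⟩ := weight_two hpow S hS hSc (β (w2 b c)).2 h6
  refine ⟨x, y, hxy, Subtype.ext ?_⟩
  rw [← h5, h7, coe_w2]

/-- the common point of a star -/
theorem star (k : X) : ∃ x : X, ∀ l, l ≠ k → (β (w2 k l) : X → ZMod 2) x = 1 := by
  obtain ⟨l₁, hl₁, -⟩ := exists_third β hβ h3 hc k k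
  obtain ⟨l₂, hl₂, hl₁₂⟩ := exists_third β hβ h3 hc k l₁
  obtain ⟨x₁, y₁, hxy₁, h1⟩ := beta_w2 β hβ h3 hc hl₁.symm
  obtain ⟨x₂, y₂, hxy₂, h2⟩ := beta_w2 β hβ h3 hc hl₂.symm
  obtain ⟨x₀, y₀, hxy₀, h0⟩ := beta_w2 β hβ h3 hc hl₁₂.symm
  have hsum : w2 x₁ y₁ + w2 x₂ y₂ = w2 x₀ y₀ := by
    rw [← h1, ← h2, ← h0, ← map_add, w2_add]
  -- a common point
  have hcomm : ∃ x y z : X, x ≠ y ∧ x ≠ z ∧ y ≠ z ∧ β (w2 k l₁) = w2 x y ∧ β (w2 k l₂) = w2 x z := by
    have hne : w2 x₁ y₁ ≠ w2 x₂ y₂ := by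
      rw [← h1, ← h2]
      intro h
      have h4 := hβ h
      have h5 : w2 l₁ l₂ = 0 := by
        rw [← w2_add k l₁ l₂, h4]
        exact Subtype.ext (funext fun _ => two2 _)
      exact w2_ne hl₁₂.symm h5
    by_cases e1 : x₁ = x₂
    · subst e1
      refine ⟨x₁, y₁, y₂, hxy₁, hxy₂, fun e => hne (by rw [e]), h1, h2⟩
    · by_cases e2' : x₁ = y₂
      · subst e2'
        refine ⟨x₁, y₁, x₂, hxy₁, e1, fun e => hne (by rw [e, w2_comm]), h1, by rw [h2, w2_comm]⟩
      · by_cases e3 : y₁ = x₂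
        · subst e3
          refine ⟨y₁, x₁, y₂, hxy₁.symm, hxy₂, fun e => hne (by rw [e, w2_comm]), by rw [h1, w2_comm], h2⟩
        · by_cases e4 : y₁ = y₂
          · subst e4
            refine ⟨y₁, x₁, x₂, hxy₁.symm, hxy₂.symm, e1, by rw [h1, w2_comm], by rw [h2, w2_comm]⟩
          · -- disjoint: the sum has weight four
            exfalso
            have v1 := congrFun (congrArg Subtype.val hsum) x₁
            have v2 := congrFun (congrArg Subtype.val hsum) y₁
            have v3 := congrFun (congrArg Subtype.val hsum) x₂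
            rw [AddSubgroup.coe_add, coe_w2, coe_w2, coe_w2, Pi.add_apply] at v1 v2 v3
            simp only [e2, if_pos rfl, if_neg hxy₁, if_neg e1, if_neg e2', add_zero] at v1
            simp only [e2, if_pos rfl, if_neg hxy₁.symm, if_neg e3, if_neg e4, add_zero, zero_add] at v2
            simp only [e2, if_pos rfl, if_neg hxy₂, if_neg (Ne.symm e1), if_neg (Ne.symm e3), add_zero, zero_add] at v3
            -- three distinct points in the support of `w2 x₀ y₀`
            have hin : ∀ x, (1 : ZMod 2) = (if x = x₀ then 1 else 0) + (if x = y₀ then 1 else 0) → x = x₀ ∨ x = y₀ := by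
              intro x hx
              by_contra hcon
              rw [not_or] at hcon
              rw [if_neg hcon.1, if_neg hcon.2, add_zero] at hx
              exact absurd hx (by decide)
            rcases hin _ v1 with a1 | a1 <;> rcases hin _ v2 with a2 | a2 <;> rcases hin _ v3 with a3 | a3
            · exact hxy₁ (a1.trans a2.symm)
            · exact hxy₁ (a1.trans a2.symm)
            · exact e1 (a1.trans a3.symm)
            · exact e3 (a2.trans a3.symm)
            · exact e3 (a2.trans a3.symm)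
            · exact e1 (a1.trans a3.symm)
            · exact hxy₁ (a1.trans a2.symm)
            · exact hxy₁ (a1.trans a2.symm)
  obtain ⟨x, y, z, hxy, hxz, hyz, h4, h5⟩ := hcomm
  refine ⟨x, fun l hl => ?_⟩
  rw [h4] at h1
  by_cases hll₁ : l = l₁
  · rw [hll₁, h4, coe_w2]
    simp [e2, hxy]
  by_cases hll₂ : l = l₂
  · rw [hll₂, h5, coe_w2]
    simp [e2, hxz]
  obtain ⟨x', y', hxy', h6⟩ := beta_w2 β hβ h3 hc hl.symm
  obtain ⟨x₃, y₃, hxy₃, h7⟩ := beta_w2 β hβ h3 hc hll₁
  obtain ⟨x₄, y₄, hxy₄, h8⟩ := beta_w2 β hβ h3 hc hll₂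
  -- `w2 x' y' + w2 x y` has weight two
  have s1 : w2 x' y' + w2 x y = w2 x₃ y₃ := by rw [← h6, ← h4, ← h7, ← map_add, w2_add]
  have s2 : w2 x' y' + w2 x z = w2 x₄ y₄ := by rw [← h6, ← h5, ← h8, ← map_add, w2_add]
  rw [h6, coe_w2]
  by_contra hne
  have hx' : x ≠ x' ∧ x ≠ y' := by
    constructor
    · intro e
      apply hne
      rw [e]; simp [e2, hxy']
    · intro e
      apply hne
      rw [e]; simp [e2, hxy'.symm]
  -- then `{x', y'} = {y, z}`
  have hmeet : ∀ u v p q r s : X, u ≠ v → p ≠ q → r ≠ s → w2 u v + w2 p q = w2 r s → w2 u v ≠ w2 p q →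
      u = p ∨ u = q ∨ v = p ∨ v = q := by
    intro u v p q r s huv hpq hrs hs _
    by_contra hcon
    simp only [not_or] at hcon
    obtain ⟨c1, c2, c3', c4⟩ := hcon
    have v1 := congrFun (congrArg Subtype.val hs) u
    have v2 := congrFun (congrArg Subtype.val hs) v
    have v3 := congrFun (congrArg Subtype.val hs) p
    rw [AddSubgroup.coe_add, coe_w2, coe_w2, coe_w2, Pi.add_apply] at v1 v2 v3
    simp only [e2, if_pos rfl, if_neg huv, if_neg c1, if_neg c2, add_zero] at v1
    simp only [e2, if_pos rfl, if_neg huv.symm, if_neg c3', if_neg c4, add_zero, zero_add] at v2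
    simp only [e2, if_pos rfl, if_neg hpq, if_neg (Ne.symm c1), if_neg (Ne.symm c3'), add_zero, zero_add] at v3
    have hin : ∀ x, (1 : ZMod 2) = (if x = r then 1 else 0) + (if x = s then 1 else 0) → x = r ∨ x = s := by
      intro x hx
      by_contra hcon
      rw [not_or] at hcon
      rw [if_neg hcon.1, if_neg hcon.2, add_zero] at hx
      exact absurd hx (by decide)
    rcases hin _ v1 with a1 | a1 <;> rcases hin _ v2 with a2 | a2 <;> rcases hin _ v3 with a3 | a3
    · exact huv (a1.trans a2.symm)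
    · exact huv (a1.trans a2.symm)
    · exact c1 (a1.trans a3.symm)
    · exact c3' (a2.trans a3.symm)
    · exact c3' (a2.trans a3.symm)
    · exact c1 (a1.trans a3.symm)
    · exact huv (a1.trans a2.symm)
    · exact huv (a1.trans a2.symm)
  have n1 : w2 x' y' ≠ w2 x y := fun h => by
    have h9 := congrFun (congrArg Subtype.val h) x
    rw [coe_w2, coe_w2] at h9
    simp [e2, hx'.1, hx'.2, hxy] at h9
  have n2 : w2 x' y' ≠ w2 x z := fun h => by
    have h9 := congrFun (congrArg Subtype.val h) x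
    rw [coe_w2, coe_w2] at h9
    simp [e2, hx'.1, hx'.2, hxz] at h9
  have m1 := hmeet _ _ _ _ _ _ hxy' hxy hxy₃ s1 n1
  have m2 := hmeet _ _ _ _ _ _ hxy' hxz hxy₄ s2 n2
  have hyzs : w2 x' y' = w2 y z := by
    rcases m1 with m1 | m1 | m1 | m1
    · exact absurd m1.symm hx'.1
    · rcases m2 with m2 | m2 | m2 | m2
      · exact absurd m2.symm hx'.1
      · exact absurd (m1.symm.trans m2) hyz
      · exact absurd m2.symm hx'.2
      · rw [m1, m2]
    · exact absurd m1.symm hx'.2
    · rcases m2 with m2 | m2 | m2 | m2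
      · exact absurd m2.symm hx'.1
      · rw [m1, m2, w2_comm]
      · exact absurd m2.symm hx'.2
      · exact absurd (m1.symm.trans m2) hyz
  -- contradiction
  have h9 : β (w2 k l) = β (w2 k l₁ + w2 k l₂) := by
    rw [h6, hyzs, map_add, h4, h5, w2_add]
  have h10 := hβ h9
  rw [w2_add] at h10
  have h11 := congrFun (congrArg Subtype.val h10) k
  rw [coe_w2, coe_w2] at h11
  simp [e2, hl.symm, hl₁.symm, hl₂.symm] at h11

/-- **the points are recovered** -/
theorem exists_perm : ∃ π : Equiv.Perm X, ∀ (v : Ev X) (k : X), (β v : X → ZMod 2) (π k) = (v : X → ZMod 2) k := by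
  choose π hπ using star β hβ h3 hc
  have hinj : Function.Injective π := by
    intro k k' hk
    by_contra hne
    obtain ⟨l, hlk, hlk'⟩ := exists_third β hβ h3 hc k k'
    have h1 := hπ k l hlk
    have h2 := hπ k' l hlk'
    have h4 := hπ k k' (Ne.symm hne)
    rw [← hk] at h2
    have h5 : w2 l k + w2 l k' = w2 k k' := w2_add l k k'
    rw [← h5, map_add, AddSubgroup.coe_add, Pi.add_apply, w2_comm l k, w2_comm l k', h1, h2] at h4
    have h6 : ¬ ((1 : ZMod 2) + 1 = 1) := by decide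
    exact h6 h4
  have hw : ∀ k l, β (w2 k l) = w2 (π k) (π l) := by
    intro k l
    by_cases hkl : k = l
    · rw [hkl, w2_self, w2_self, map_zero]
    · obtain ⟨x, y, hxy, h1⟩ := beta_w2 β hβ h3 hc hkl
      have h2 := hπ k l (Ne.symm hkl)
      have h4 := hπ l k hkl
      rw [w2_comm l k] at h4
      rw [h1, coe_w2] at h2 h4
      have hin : ∀ z, e2 x y z = 1 → z = x ∨ z = y := by
        intro z hz
        by_contra hcon
        rw [not_or] at hcon
        simp [e2, hcon.1, hcon.2] at hz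
      rw [h1]
      rcases hin _ h2 with a1 | a1 <;> rcases hin _ h4 with a2 | a2
      · exact absurd (hinj (a1.trans a2.symm)) hkl
      · rw [a1, a2]
      · rw [a1, a2, w2_comm]
      · exact absurd (hinj (a1.trans a2.symm)) hkl
  refine ⟨Equiv.ofBijective π (Finite.injective_iff_bijective.1 hinj), fun v k => ?_⟩
  show (β v : X → ZMod 2) (π k) = _
  have h1 := sum_w2 k v
  conv_lhs => rw [h1]
  conv_rhs => rw [h1]
  rw [map_sum, AddSubgroup.val_finsetSum, AddSubgroup.val_finsetSum, Finset.sum_apply, Finset.sum_apply]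
  refine Finset.sum_congr rfl fun l _ => ?_
  rw [map_nsmul, hw, AddSubgroup.coe_nsmul, AddSubgroup.coe_nsmul, Pi.smul_apply, Pi.smul_apply, coe_w2, coe_w2]
  congr 1
  simp only [e2, hinj.eq_iff]

end Cfsg.Agent.H41.HM
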